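/-
P30: real classes whose sizes have the same 2-part.  Interface (see plans/P30.md).
-/
import Cfsg.Agent.P21.ODefs
import Cfsg.Agent.P29.Defs

set_option autoImplicit false
set_option linter.unusedSectionVars false

namespace Cfsg.Agent.P30

open Subgroup Cfsg Cfsg.Agent Cfsg.Agent.FT
open Cfsg.Agent.P21 (Two)

universe u

/-- A real element of odd order different from 1. -/
def RO {G : Type u} [Group G] (x : G) : Prop := x ≠ 1 ∧ Odd (orderOf x) ∧ IsConj x x⁻¹

/-- `O(G) = 1`, the centralizers of the noncentral real elements have Sylow 2-subgroups of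
order `s`, and `G` is not 2-closed. -/
structure Hp (G : Type u) [Group G] (s : ℕ) : Prop where
  od : pPrimeCore 2 G = ⊥
  syl : ∀ y : G, IsConj y y⁻¹ → y ∉ center G → ∃ S, IsSyl 2 S 𝐂[y] ∧ 𝐨(S) = s
  ex : ∃ x : G, RO x

/-- Very real elements. -/
def VR {G : Type u} [Group G] (y : G) : Prop := ∃ t : G, t * t ∈ center G ∧ t * y * t⁻¹ = y⁻¹

/-- `S` is a Sylow 2-subgroup of `C(x)`, `τ` inverts `x` and normalizes `S`. -/
structure Cf {G : Type u} [Group G] (s : ℕ) (x : G) (S : Subgroup G) (τ : G) : Prop where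
  ne : x ≠ 1
  odd : Odd (orderOf x)
  syl : IsSyl 2 S 𝐂[x]
  card : 𝐨(S) = s
  inv : τ * x * τ⁻¹ = x⁻¹
  nrm : τ ∈ 𝐍(S)
  sq : τ * τ ∈ S

/-- No noncentral very real 2-element commutes with a real element of odd order. -/
def F1 (G : Type u) [Group G] : Prop :=
  ∀ y x : G, Two y → VR y → RO x → Commute x y → y ∈ center G

/-- The theorem. -/
def MainStmt : Prop := ∀ (G : Type u) [Group G] [Finite G] (s : ℕ), Hp G s → False

/-- `a ≥ 2`: fact F1. -/
def F1Stmt : Prop := ∀ (G : Type u) [Group G] [Finite G] (s : ℕ), Hp G s → 4 * s ∣ Nat.card G → F1 G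

/-- An involution of `G / Z` outside `O₂`. -/
def ExStmt : Prop := ∀ (G : Type u) [Group G] [Finite G] (s : ℕ), Hp G s →
  ∃ t : G, t ∉ pCore 2 G ∧ t * t ∈ center G

/-- `a ≥ 2`: the core. -/
def CoreStmt : Prop := ∀ (G : Type u) [Group G] [Finite G] (s : ℕ), Hp G s → F1 G →
  (∃ t : G, t ∉ pCore 2 G ∧ t * t ∈ center G) → False

/-- `a = 1`, `G / Z` simple. -/
def QsStmt : Prop := ∀ (G : Type u) [Group G] [Finite G] (s : ℕ), Hp G s → ¬ 4 * s ∣ Nat.card G →
  IsSimpleGroup (G ⧸ center G) → False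

/-- `a = 1`. -/
def A1Stmt : Prop := ∀ (G : Type u) [Group G] [Finite G] (s : ℕ), Hp G s → ¬ 4 * s ∣ Nat.card G →
  False

/-- `a = 1`, `G / Z` simple: the Sylow 2-subgroups of `G / Z` are dihedral. -/
def DihStmt : Prop := ∀ (G : Type u) [Group G] [Finite G] (s : ℕ), Hp G s → ¬ 4 * s ∣ Nat.card G →
  IsSimpleGroup (G ⧸ center G) → ∃ (x t w : G) (S : Subgroup G), Cf s x S t ∧ t * t ∈ center G ∧
    w ∈ S ∧ w ∉ center G ∧ S ≤ zpowers w ⊔ center G ∧ w * (t * w * t⁻¹) ∈ center G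

/-- The end: a simple group with dihedral Sylow 2-subgroups. -/
def EndStmt : Prop := ∀ (X : Type u) [Group X] [Finite X], IsSimpleGroup X → ¬ IsMulCommutative X →
  (8 ∣ Nat.card X → P29.Dih X) → ∀ n : ℕ, (∀ T : Subgroup X, IsSyl 2 T ⊤ → 𝐨(T) = 2 * n) →
  (∀ x : X, RO x → n ∣ 𝐨(𝐂[x])) → False

theorem main_of (h1 : F1Stmt.{u}) (h2 : ExStmt.{u}) (h3 : CoreStmt.{u}) (h4 : A1Stmt.{u}) :
    MainStmt.{u} := fun G _ _ s h => by
  by_cases e : 4 * s ∣ Nat.card G
  exacts [h3 G s h (h1 G s h e) (h2 G s h), h4 G s h e]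

end Cfsg.Agent.P30
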