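/-
P30: basic facts.
-/
import Cfsg.Agent.P30.Defs
import Cfsg.Agent.P21.Q
import Cfsg.Agent.H5.Real2
import Cfsg.Agent.S3861

set_option autoImplicit false
set_option linter.unusedSectionVars false

namespace Cfsg.Agent.P30

open Subgroup Cfsg Cfsg.Agent Cfsg.Agent.FT
open Cfsg.Agent.P21 (Two)

universe u

variable {G : Type u} [Group G] [Finite G] {s : ℕ} {x y g t τ : G} {S P Q : Subgroup G}

theorem real_of (h : g * y * g⁻¹ = y⁻¹) : IsConj y y⁻¹ := isConj_iff.2 ⟨g, h⟩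

/-- K0: `t⁻¹ t^w` is inverted by `t`. -/
theorem k0 {w : G} (h : t * t * w = w * (t * t)) :
    t * (t⁻¹ * (w * t * w⁻¹)) * t⁻¹ = (t⁻¹ * (w * t * w⁻¹))⁻¹ := by
  calc _ = w * t⁻¹ * (t * t * w⁻¹) * t⁻¹ := by group
    _ = w * t⁻¹ * (w⁻¹ * (w * (t * t)) * w⁻¹) * t⁻¹ := by group
    _ = _ := by rw [← h]; group

/-- K0: `w⁻¹ w^t` is inverted by `t`. -/
theorem k1 {w : G} (h : t * t * w = w * (t * t)) :
    t * (w⁻¹ * (t * w * t⁻¹)) * t⁻¹ = (w⁻¹ * (t * w * t⁻¹))⁻¹ := by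
  calc _ = t * w⁻¹ * t⁻¹ * (t * t * w) * (t * t)⁻¹ := by group
    _ = _ := by rw [h]; group

theorem two_pow (h : Two y) (n : ℕ) : Two (y ^ n) :=
  h.imp fun k e => by rw [← pow_mul, mul_comm, pow_mul, e, one_pow]

theorem two_of_sq (h : Two (y * y)) : Two y :=
  h.elim fun k e => ⟨k + 1, by rw [pow_succ', pow_mul, sq, e]⟩

theorem two_of_sq_mem (hP : IsPGroup 2 P) (h : y * y ∈ P) : Two y := two_of_sq (Two.of_mem hP h)

theorem eq_one_of_two (h : Two x) (ho : Odd (orderOf x)) : x = 1 := by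
  obtain ⟨k, e⟩ := h
  exact orderOf_eq_one_iff.1 (Nat.Coprime.eq_one_of_dvd
    ((Nat.coprime_two_right.2 ho).pow_right k) (orderOf_dvd_of_pow_eq_one e))

theorem odd_pow (h : Odd (orderOf x)) (n : ℕ) : Odd (orderOf (x ^ n)) :=
  h.of_dvd_nat (orderOf_pow_dvd n)

/-- `g ^ m` is a 2-element and `g ^ 2 ^ k` has odd order. -/
theorem exists_parts (g : G) : ∃ k m : ℕ, Odd m ∧ (g ^ m) ^ 2 ^ k = 1 ∧ Odd (orderOf (g ^ 2 ^ k)) := by
  obtain ⟨k, m, hm, e⟩ := Nat.exists_eq_two_pow_mul_odd (orderOf_pos g).ne'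
  refine ⟨k, m, hm, by rw [← pow_mul, mul_comm, ← e, pow_orderOf_eq_one], hm.of_dvd_nat
    (orderOf_dvd_of_pow_eq_one (by rw [← pow_mul, ← e, pow_orderOf_eq_one]))⟩

theorem inv_pow' (h : g * y * g⁻¹ = y⁻¹) (n : ℕ) : g * y ^ n * g⁻¹ = (y ^ n)⁻¹ := by
  rw [← conj_pow, h, inv_pow]

theorem not_comm_of_inv (h1 : x ≠ 1) (ho : Odd (orderOf x)) (h : g * x * g⁻¹ = x⁻¹) :
    g ∉ 𝐂[x] := fun e => h1 (eq_one_of_two (Two.of_sq (by
  rw [mem_cent1_iff_conj.1 e] at h; exact mul_eq_one_iff_eq_inv.2 h)) ho)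

theorem norm_cent_of_inv (h : g * x * g⁻¹ = x⁻¹) : g ∈ 𝐍(𝐂[x]) := by
  rw [← conj_eq_self_iff, ← cent1_conj, h, cent1_inv]

theorem sq_cent_of_inv (h : g * x * g⁻¹ = x⁻¹) : g * g ∈ 𝐂[x] := mem_cent1_iff_conj.2 <| by
  calc _ = g * (g * x * g⁻¹) * g⁻¹ := by group
    _ = g * x⁻¹ * g⁻¹ := by rw [h]
    _ = (g * x * g⁻¹)⁻¹ := by group
    _ = _ := by rw [h, inv_inv]

theorem cent_of_sq (ho : Odd (orderOf x)) (h : x * x ∈ P) : x ∈ P :=
  H5.mem_of_sq_mem_of_odd ho (by rwa [sq])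

theorem cent_mul (ho : Odd (orderOf x)) (h2 : Two y) (c : Commute x y) :
    𝐂[x * y] = 𝐂[x] ⊓ 𝐂[y] := by
  rw [c.eq, inf_comm]
  refine cent1_mul_eq (π := {2}) ((isPiElt_singleton_iff Nat.prime_two).2 h2.zp) ?_ c.symm
  rintro p - hp rfl
  exact (Nat.not_even_iff_odd.2 ho) (even_iff_two_dvd.2 hp)

theorem mem_center_iff_cent : y ∈ center G ↔ 𝐂[y] = ⊤ :=
  ⟨fun h => eq_top_iff.2 fun g _ => mem_cent1.2 (mem_center_iff.1 h g).symm,
    fun h => mem_center_iff.2 fun g => (mem_cent1.1 (h.ge (mem_top g))).symm⟩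

theorem comm_of_shift {c w : G} (ho : Odd (orderOf x)) (hc : Commute x c) (h2 : Two c)
    (e : x * w * x⁻¹ = w * c) : w ∈ 𝐂[x] := by
  have a : ∀ n : ℕ, x ^ n * w * (x ^ n)⁻¹ = w * c ^ n := fun n => by
    induction n with
    | zero => simp
    | succ n ih =>
      calc _ = x * (x ^ n * w * (x ^ n)⁻¹) * x⁻¹ := by rw [pow_succ']; group
        _ = x * w * x⁻¹ * (x * c ^ n) * x⁻¹ := by rw [ih]; group
        _ = _ := by rw [e, (hc.pow_right n).eq, pow_succ']; group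
  have b := a (orderOf x)
  rw [pow_orderOf_eq_one, one_mul, inv_one, mul_one, left_eq_mul] at b
  rw [eq_one_of_two h2 (ho.of_dvd_nat (orderOf_dvd_of_pow_eq_one b)), mul_one] at e
  exact mem_cent1.2 (mul_inv_eq_iff_eq_mul.1 e)

/-- A Sylow 2-subgroup of `K` normalized by the 2-element `τ`. -/
theorem exists_syl {K : Subgroup G} (hK : τ ∈ 𝐍(K)) (h2 : Two τ) (hP : IsPGroup 2 P) (hPK : P ≤ K)
    (hn : τ ∈ 𝐍(P)) : ∃ S, IsSyl 2 S K ∧ P ≤ S ∧ τ ∈ 𝐍(S) ∧ (τ * τ ∈ K → τ * τ ∈ S) := by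
  have n : K ⊲ K ⊔ zpowers τ := ⟨le_sup_left, sup_le (le_norm_self K) (zpowers_le.2 hK)⟩
  obtain ⟨T, hT, l⟩ := exists_isSyl_ge Nat.prime_two (M := K ⊔ zpowers τ) (Q := zpowers τ ⊔ P)
    (isPGroup_sup h2.zp hP (zpowers_le.2 hn)) (sup_le le_sup_right (hPK.trans le_sup_left))
  have m : τ ∈ T := l (mem_sup_left (mem_zpowers τ))
  refine ⟨T ⊓ K, hT.inf_normal Nat.prime_two n, le_inf (le_sup_right.trans l) hPK, ?_,
    fun e => ⟨mul_mem m m, e⟩⟩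
  rw [inf_comm]; exact (inf_normal n hT.le).2 m

/-- A subgroup in which no element of odd order is real is 2-closed. -/
theorem closed {H : Subgroup G}
    (h : ∀ x ∈ H, ∀ g ∈ H, Odd (orderOf x) → g * x * g⁻¹ = x⁻¹ → x = 1) :
    IsSyl 2 (pCoreOf 2 H) H := by
  have := Fact.mk Nat.prime_two
  obtain ⟨T⟩ : Nonempty (Sylow 2 H) := inferInstance
  have n := (S3861.result T).1 fun x x1 o c => by
    obtain ⟨g, e⟩ := isConj_iff.1 c
    exact x1 (Subtype.ext (h x x.2 g g.2 (by rwa [orderOf_coe]) (congrArg Subtype.val e)))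
  have a := isSyl_map_subtype Nat.prime_two T
  rwa [a.pCoreOf_eq Nat.prime_two fun g hg => mem_norm_of_conj_le ?_]
  rintro _ ⟨_, ⟨b, hb, rfl⟩, rfl⟩
  exact ⟨_, n.conj_mem b hb ⟨g, hg⟩, rfl⟩

/-- In a 2-closed subgroup no element of odd order is real. -/
theorem eq_one_of_closed {H : Subgroup G} (h : IsSyl 2 (pCoreOf 2 H) H) (hx : x ∈ H) (hg : g ∈ H)
    (ho : Odd (orderOf x)) (e : g * x * g⁻¹ = x⁻¹) : x = 1 := by
  obtain ⟨k, m, hm, e1, -⟩ := exists_parts g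
  have n := pCoreOf_normal 2 H
  have m1 : g ^ m ∈ pCoreOf 2 H := h.le_of_normal Nat.prime_two n.2 (Two.zp ⟨k, e1⟩)
    (zpowers_le.2 (pow_mem hg m)) (mem_zpowers _)
  have e2 := H5.pow_conj_eq_inv_of_odd e hm
  have m2 : x * x ∈ pCoreOf 2 H := by
    have : x * x = x * g ^ m * x⁻¹ * (g ^ m)⁻¹ := by
      calc _ = x * (g ^ m * x * (g ^ m)⁻¹)⁻¹ := by rw [e2, inv_inv]
        _ = _ := by group
    rw [this]
    exact mul_mem ((mem_normalizer_iff.1 (n.2 hx) _).1 m1) (inv_mem m1)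
  exact eq_one_of_two (two_of_sq_mem h.pgrp m2) ho

namespace Hp

variable (h : Hp G s)
include h

theorem le (hy : IsConj y y⁻¹) (hP : IsPGroup 2 P) (hc : P ≤ 𝐂[y]) (hs : s < 𝐨(P)) :
    y ∈ center G := by
  by_contra e
  obtain ⟨S, hS, c⟩ := h.syl y hy e
  exact absurd (Nat.le_of_dvd Nat.card_pos (hS.card_dvd Nat.prime_two hP hc)) (by omega)

/-- A 2-subgroup of order `s` of the centralizer of a real noncentral element is Sylow. -/
theorem isSyl (hy : IsConj y y⁻¹) (hz : y ∉ center G) (hc : S ≤ 𝐂[y]) (hs : 𝐨(S) = s) :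
    IsSyl 2 S 𝐂[y] := by
  obtain ⟨T, hT, c⟩ := h.syl y hy hz
  exact hT.of_card_eq Nat.prime_two hc (hs.trans c.symm)

theorem card_eq (hy : IsConj y y⁻¹) (hz : y ∉ center G) (hS : IsSyl 2 S 𝐂[y]) : 𝐨(S) = s := by
  obtain ⟨T, hT, c⟩ := h.syl y hy hz
  exact (hS.card_eq Nat.prime_two hT).trans c

/-- `S ⟨t⟩ ≤ C(y)`, `|S| = s`, `t ∉ S`. -/
theorem le' (hy : IsConj y y⁻¹) (hs : 𝐨(S) = s) (hc : S ≤ 𝐂[y]) (h2 : Two t) (hn : t ∈ 𝐍(S))
    (ht : t ∈ 𝐂[y]) (hS : t ∉ S) : y ∈ center G := by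
  by_contra e
  exact hS ((h.isSyl hy e hc hs).le_of_norm Nat.prime_two h2.zp (zpowers_le.2 ht) (zpowers_le.2 hn)
    (mem_zpowers t))

theorem odd_center (ho : Odd (orderOf x)) (hx : x ∈ center G) : x = 1 := by
  have n : (zpowers x).Normal := ⟨fun a ha g => by
    rwa [mem_center_iff.1 (zpowers_le.2 hx ha) g, mul_inv_cancel_right]⟩
  exact mem_bot.1 (h.od.le (L.le_pPrimeCore n (by
    rw [Nat.card_zpowers]; exact Nat.coprime_two_right.2 ho) (mem_zpowers x)))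

theorem two_center (hx : x ∈ center G) : Two x := by
  obtain ⟨k, m, -, -, e⟩ := exists_parts x
  exact ⟨k, h.odd_center e (pow_mem hx _)⟩

theorem zp : IsPGroup 2 (center G) := fun z => (h.two_center z.2).imp fun _ e => Subtype.ext e

theorem two_of_sq_center (hy : y * y ∈ center G) : Two y := two_of_sq (h.two_center hy)

/-- Configurations exist. -/
theorem exists_cf (h1 : x ≠ 1) (ho : Odd (orderOf x)) (hi : τ * x * τ⁻¹ = x⁻¹) (h2 : Two τ)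
    (hP : IsPGroup 2 P) (hc : P ≤ 𝐂[x]) (hn : τ ∈ 𝐍(P)) : ∃ S, Cf s x S τ ∧ P ≤ S := by
  obtain ⟨S, hS, l, n, q⟩ := exists_syl (norm_cent_of_inv hi) h2 hP hc hn
  exact ⟨S, ⟨h1, ho, hS, h.card_eq (real_of hi) (fun e => h1 (h.odd_center ho e)) hS, hi, n,
    q (sq_cent_of_inv hi)⟩, l⟩

theorem exists_cf' (h1 : x ≠ 1) (ho : Odd (orderOf x)) (hi : τ * x * τ⁻¹ = x⁻¹) (h2 : Two τ) :
    ∃ S, Cf s x S τ :=
  (h.exists_cf h1 ho hi h2 (IsPGroup.of_bot (p := 2)) bot_le (by rw [norm_bot]; trivial)).imp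
    fun _ e => e.1

theorem cf_of_ro (hx : RO x) : ∃ S τ, Cf s x S τ := by
  obtain ⟨g, e⟩ := isConj_iff.1 hx.2.2
  obtain ⟨k, m, hm, e1, -⟩ := exists_parts g
  obtain ⟨S, c⟩ := h.exists_cf' hx.1 hx.2.1 (H5.pow_conj_eq_inv_of_odd e hm) ⟨k, e1⟩
  exact ⟨S, _, c⟩

/-- A 2-element and an element of odd order, commuting and inverted simultaneously. -/
theorem sim (h2 : Two y) (hz : y ∉ center G) (h1 : x ≠ 1) (ho : Odd (orderOf x)) (c : Commute x y)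
    (ix : g * x * g⁻¹ = x⁻¹) (iy : g * y * g⁻¹ = y⁻¹) :
    ∃ (S : Subgroup G) (m : ℕ), Odd m ∧ Cf s x S (g ^ m) ∧ y ∈ S ∧ S ≤ 𝐂[y] ∧
      g ^ m * y * (g ^ m)⁻¹ = y⁻¹ := by
  obtain ⟨k, m, hm, e1, -⟩ := exists_parts g
  have jx := H5.pow_conj_eq_inv_of_odd ix hm
  have jy := H5.pow_conj_eq_inv_of_odd iy hm
  refine (?_ : ∃ S, _).imp fun S e => ⟨m, hm, e⟩
  generalize g ^ m = τ at e1 jx jy ⊢
  have j : τ * (x * y) * τ⁻¹ = (x * y)⁻¹ := by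
    calc _ = τ * x * τ⁻¹ * (τ * y * τ⁻¹) := by group
      _ = _ := by rw [jx, jy, c.eq, mul_inv_rev]
  have e := cent_mul ho h2 c
  obtain ⟨S, hS, l, n, q⟩ := exists_syl (norm_cent_of_inv j) ⟨k, e1⟩ h2.zp
    (zpowers_le.2 (e.ge ⟨mem_cent1_iff_commute.2 c, self_mem_cent1 y⟩))
    (mem_norm_of_conj_le (by rw [← zpowers_conj, jy, zpowers_inv]))
  have cs := h.card_eq (real_of j) (fun z => hz (mem_center_iff_cent.2 (eq_top_iff.2
    ((mem_center_iff_cent.1 z).ge.trans (e.le.trans inf_le_right))))) hS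
  have l2 := hS.le.trans e.le
  exact ⟨S, ⟨h1, ho, h.isSyl (real_of jx) (fun e => h1 (h.odd_center ho e))
    (l2.trans inf_le_left) cs, cs, jx, n, q (sq_cent_of_inv j)⟩, l (mem_zpowers y),
    l2.trans inf_le_right, jy⟩

/-- An involution centralizing `x` and an element inverting `x` is central. -/
theorem invol {i : G} (ii : i * i = 1) (h1 : x ≠ 1) (ho : Odd (orderOf x)) (c : x ∈ 𝐂[i])
    (cg : g ∈ 𝐂[i]) (ix : g * x * g⁻¹ = x⁻¹) : i ∈ center G := by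
  by_contra hz
  have i1 : i⁻¹ = i := inv_eq_of_mul_eq_one_right ii
  obtain ⟨S, m, -, cf, -, l, -⟩ := h.sim (Two.of_sq ii) hz h1 ho (mem_cent1_iff_commute.1 c).symm ix
    (by rw [i1]; exact mem_cent1_iff_conj.1 cg)
  exact hz (h.le' (by rw [i1]) cf.card l (two_of_sq_mem cf.syl.pgrp cf.sq) cf.nrm (pow_mem cg m)
    fun e => not_comm_of_inv h1 ho cf.inv (cf.syl.le e))

/-- (B) -/
theorem closedB {i : G} (ii : i * i = 1) (hz : i ∉ center G) : IsSyl 2 (pCoreOf 2 𝐂[i]) 𝐂[i] :=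
  closed fun _ hx _ hg ho e => by_contra fun h1 => hz (h.invol ii h1 ho hx hg e)

end Hp

namespace Cf

variable (c : Cf s x S τ)
include c

theorem pgrp : IsPGroup 2 S := c.syl.pgrp
theorem two : Two τ := two_of_sq_mem c.pgrp c.sq
theorem ro : RO x := ⟨c.ne, c.odd, real_of c.inv⟩
theorem not_cent : τ ∉ 𝐂[x] := not_comm_of_inv c.ne c.odd c.inv
theorem not_mem : τ ∉ S := fun e => c.not_cent (c.syl.le e)
theorem mem_cent_S : x ∈ 𝐂(S) := mem_cent_iff_cent1.2 c.syl.le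

theorem center_le (h : Hp G s) : center G ≤ S :=
  c.syl.le_of_norm Nat.prime_two h.zp (fun _ e => mem_cent1.2 (mem_center_iff.1 e x))
    fun _ e => cent_le_norm S (mem_cent.2 fun a _ => mem_center_iff.1 e a)

/-- A real 2-element centralizing `S` lies in `S`. -/
theorem mem_of_real (h : Hp G s) (hy : IsConj y y⁻¹) (h2 : Two y) (hc : y ∈ 𝐂(S)) : y ∈ S :=
  by_contra fun e => e (c.center_le h (h.le' hy c.card (mem_cent_iff_cent1.1 hc) h2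
    (cent_le_norm S hc) (self_mem_cent1 y) e))

/-- (E) -/
theorem E (h : Hp G s) {j : G} (hj : j ∈ S) (jj : j * j = 1) (e : j * τ = τ * j) : j ∈ center G :=
  h.invol jj c.ne c.odd (mem_cent1_comm.1 (c.syl.le hj)) (mem_cent1.2 e) c.inv

/-- (C) -/
theorem cent (h : Hp G s) (hQ : IsPGroup 2 Q) (hx : x ∈ 𝐍(Q)) (hS : S ≤ 𝐍(Q)) (hτ : τ ∈ 𝐍(Q)) :
    Q ≤ 𝐂[x] := by
  have := Fact.mk Nat.prime_two
  rw [← cent_zpowers, cent_comm]
  refine H1.pxq_lemma c.pgrp hQ hS (zpowers_le.2 hx) (by rw [cent_zpowers]; exact c.syl.le) ?_ ?_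
  · obtain ⟨n, e⟩ := exists_card_eq_pow Nat.prime_two hQ
    rw [e, Nat.card_zpowers]; exact (Nat.coprime_two_right.2 c.odd).pow_right n
  rw [cent_zpowers]
  have nr : ∀ g ∈ 𝐍(Q), g ∈ 𝐍(S) → ∀ w ∈ Q ⊓ 𝐂(S), g * w * g⁻¹ ∈ Q ⊓ 𝐂(S) := fun g a b w hw =>
    ⟨(mem_normalizer_iff.1 a w).1 hw.1, by
      have := conj_mem_conj hw.2 g
      rwa [← cent_conj, conj_eq_of_mem_norm b] at this⟩
  have xS := cent_le_norm S c.mem_cent_S
  have a : ∀ w ∈ Q ⊓ 𝐂(S), w⁻¹ * (τ * w * τ⁻¹) ∈ S := fun w hw => by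
    have m := mul_mem (inv_mem hw) (nr τ hτ c.nrm w hw)
    exact c.mem_of_real h (real_of (k1 (mem_cent.1 hw.2 _ c.sq))) (Two.of_mem hQ m.1) m.2
  intro w hw
  have v := nr _ (inv_mem hτ) (inv_mem c.nrm) w hw
  have a1 := a _ v
  have a2 := (mem_normalizer_iff.1 xS _).1 (a _ (nr _ (inv_mem hx) (inv_mem xS) _ v))
  have m := mul_mem (inv_mem a1) a2
  refine mem_cent1_comm.1 (cent_of_sq c.odd (mem_cent1_comm.1 (comm_of_shift
    (by rw [← pow_two]; exact odd_pow c.odd 2) ?_ (Two.of_mem c.pgrp m) ?_)))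
  · exact (mem_cent1_iff_commute.1 (c.syl.le m)).mul_left (mem_cent1_iff_commute.1 (c.syl.le m))
  · have e : x * x = x * τ * x⁻¹ * τ⁻¹ := by
      calc _ = x * (τ * x * τ⁻¹)⁻¹ := by rw [c.inv, inv_inv]
        _ = _ := by group
    rw [e]; group

end Cf

/-- A real element of odd order centralizes `O₂(G)`. -/
theorem Hp.core_cent (h : Hp G s) (hx : RO x) : pCore 2 G ≤ 𝐂[x] := by
  obtain ⟨S, τ, c⟩ := h.cf_of_ro hx
  have n : 𝐍(pCore 2 G) = ⊤ := normalizer_eq_top_iff.2 inferInstance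
  exact c.cent h (L.isPGroup_pCore 2) (n.ge trivial) (le_top.trans n.ge) (n.ge trivial)

end Cfsg.Agent.P30
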