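/-
P30: quasisimple groups and an index lemma, for `Ex` and `A1`.
-/
import Cfsg.Agent.P30.Defs
import Cfsg.Agent.P1.C_1
import Cfsg.Agent.FT.Final

set_option autoImplicit false
set_option linter.unusedSectionVars false

namespace Cfsg.Agent.P30.H8

open Subgroup Cfsg Cfsg.Agent Cfsg.Agent.FT
open scoped commutatorElement

universe u

variable {G : Type u} [Group G] [Finite G]

/-- If `C(y)` has odd index in `K`, an element of `K` which normalizes `C(y)` and whose square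
centralizes `y` centralizes `y`. -/
theorem fix_of_odd {K T : Subgroup G} {y g : G} (hT : IsSyl 2 T K) (hc : T ≤ 𝐂[y]) (hg : g ∈ K)
    (h1 : 𝐂[y] ≤ 𝐂[g * y * g⁻¹]) (h2 : g * g ∈ 𝐂[y]) : g ∈ 𝐂[y] := by
  have hn : g ∈ 𝐍(𝐂[y] ⊓ K) := by
    refine inv_mem_iff.1 (mem_norm_of_conj_le ?_)
    rintro _ ⟨w, ⟨hw, hwK⟩, rfl⟩
    refine mem_inf.2 ⟨mem_cent1.2 ?_,
      K.mul_mem (K.mul_mem (K.inv_mem hg) hwK) (K.inv_mem (K.inv_mem hg))⟩
    have := mem_cent1.1 (h1 hw)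
    change y * (g⁻¹ * w * g⁻¹⁻¹) = g⁻¹ * w * g⁻¹⁻¹ * y
    calc y * (g⁻¹ * w * g⁻¹⁻¹) = g⁻¹ * (g * y * g⁻¹ * w) * g := by group
      _ = g⁻¹ * (w * (g * y * g⁻¹)) * g := by rw [this]
      _ = _ := by group
  have hD : T ≤ 𝐂[y] ⊓ K := le_inf hc hT.le
  have hM : 𝐂[y] ⊓ K ≤ K ⊓ 𝐍(𝐂[y] ⊓ K) := le_inf inf_le_right le_normalizer
  have ho : ¬ 2 ∣ (𝐂[y] ⊓ K).relIndex (K ⊓ 𝐍(𝐂[y] ⊓ K)) := fun hd =>
    (hT.of_le (hD.trans hM) inf_le_left).ndvd
      (hd.trans (Dvd.intro_left _ (relIndex_mul_relIndex _ _ _ hD hM)))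
  have := H1.normal_subgroupOf_of_le (inf_le_right : K ⊓ 𝐍(𝐂[y] ⊓ K) ≤ 𝐍(𝐂[y] ⊓ K))
  have h3 : g ^ (𝐂[y] ⊓ K).relIndex (K ⊓ 𝐍(𝐂[y] ⊓ K)) ∈ 𝐂[y] ⊓ K :=
    ((𝐂[y] ⊓ K).subgroupOf _).pow_index_mem (⟨g, hg, hn⟩ : (K ⊓ 𝐍(𝐂[y] ⊓ K) : Subgroup G))
  obtain ⟨k, hk⟩ := Nat.odd_iff.2 (Nat.two_dvd_ne_zero.1 ho)
  rw [hk, pow_succ, pow_mul, pow_two] at h3
  exact (mul_mem_cancel_left (pow_mem h2 k)).1 h3.1

/-- A real element whose centralizer has odd index is inverted by itself. -/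
theorem sq_of_odd {K T : Subgroup G} {y g : G} (hT : IsSyl 2 T K) (hc : T ≤ 𝐂[y]) (hg : g ∈ K)
    (h : g * y * g⁻¹ = y⁻¹) : y * y = 1 := by
  have h1 := fix_of_odd hT hc hg (fun w hw => by
    rw [h]; exact mem_cent1.2 (Commute.inv_left (mem_cent1.1 hw))) (mem_cent1_iff_conj.2 (by
      calc g * g * y * (g * g)⁻¹ = g * (g * y * g⁻¹) * g⁻¹ := by group
        _ = g * y⁻¹ * g⁻¹ := by rw [h]
        _ = (g * y * g⁻¹)⁻¹ := by group
        _ = y := by rw [h, inv_inv]))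
  rw [mem_cent1_iff_conj.1 h1] at h
  exact mul_eq_one_iff_eq_inv.2 h

omit [Finite G] in
theorem eq_one_of_odd {x : G} (ho : Odd (orderOf x)) (h : x * x = 1) : x = 1 := by
  obtain ⟨k, hk⟩ := ho
  have := pow_orderOf_eq_one x
  rwa [hk, pow_succ, pow_mul, pow_two, h, one_pow, one_mul] at this

theorem exists_odd_part (u : G) : ∃ k : ℕ, Odd (orderOf (u ^ 2 ^ k)) := by
  obtain ⟨k, m, hm, e⟩ := Nat.exists_eq_two_pow_mul_odd (orderOf_pos u).ne'
  exact ⟨k, hm.of_dvd_nat (orderOf_dvd_of_pow_eq_one (by rw [← pow_mul, ← e, pow_orderOf_eq_one]))⟩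

omit [Finite G] in
theorem inv_conj {t g : G} (tt : t * t ∈ center G) :
    t * (t⁻¹ * (g * t * g⁻¹)) * t⁻¹ = (t⁻¹ * (g * t * g⁻¹))⁻¹ := by
  have h1 := mem_center_iff.1 tt g
  have h2 := mem_center_iff.1 tt (g⁻¹ * t⁻¹)
  calc t * (t⁻¹ * (g * t * g⁻¹)) * t⁻¹ = g * t⁻¹ * (t * t * (g⁻¹ * t⁻¹)) := by group
    _ = g * t⁻¹ * (g⁻¹ * t⁻¹ * (t * t)) := by rw [h2]
    _ = _ := by group

section QS

variable (hq : IsQuasisimple G)
include hq

theorem not_solv : ¬ Group.IsSolvable (G ⧸ center G) := fun hs => by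
  have := hq.2
  have := hq.1
  have : Group.IsPerfect (G ⧸ center G) :=
    Group.IsPerfect.ofSurjective (QuotientGroup.mk'_surjective (center G))
  exact Group.IsPerfect.not_isSolvable (G ⧸ center G) hs

theorem core_bot {N : Subgroup (G ⧸ center G)} (hN : N.Normal) (hs : Group.IsSolvable N) :
    N = ⊥ := by
  have := hq.2
  refine (hN.eq_bot_or_eq_top).resolve_right fun e => not_solv hq ?_
  subst e
  exact Group.isSolvable_of_surjective (f := (⊤ : Subgroup _).subtype) fun a => ⟨⟨a, trivial⟩, rfl⟩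

theorem exists_t : ∃ t : G, t ∉ center G ∧ t * t ∈ center G := by
  have := Fact.mk Nat.prime_two
  obtain ⟨a, ha⟩ := exists_prime_orderOf_dvd_card' (G := G ⧸ center G) 2 (by
    by_contra hd
    exact not_solv hq (feit_thompson _ (Nat.odd_iff.2 (Nat.two_dvd_ne_zero.1 hd))))
  obtain ⟨t, rfl⟩ := QuotientGroup.mk_surjective a
  refine ⟨t, fun h => ?_, (QuotientGroup.eq_one_iff _).1 ?_⟩
  · rw [(QuotientGroup.eq_one_iff t).2 h, orderOf_one] at ha; omega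
  · rw [QuotientGroup.mk_mul, ← pow_two, ← ha, pow_orderOf_eq_one]

/-- A real element which is an involution modulo the centre. -/
theorem exists_y : ∃ t y : G, y ∉ center G ∧ y * y ∈ center G ∧ t * y * t⁻¹ = y⁻¹ := by
  obtain ⟨t, t1, tt⟩ := exists_t hq
  have := Fact.mk Nat.prime_two
  have a1 : (t : G ⧸ center G) ≠ 1 := fun e => t1 ((QuotientGroup.eq_one_iff t).1 e)
  have aa : (t : G ⧸ center G) * t = 1 := (QuotientGroup.eq_one_iff (t * t)).2 tt
  have : ∃ b : G ⧸ center G, Commute (t : G ⧸ center G) (b * t * b⁻¹) ∧ b * t * b⁻¹ ≠ t := by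
    by_contra! hc
    have hz : ∀ b : G ⧸ center G, ⁅(t : G ⧸ center G), b⁆ = 1 := fun b => by
      have := P1.zstar (orderOf_eq_prime ((pow_two _).trans aa) a1) hc b
      rwa [core_bot hq (N := pPrimeCore 2 _) inferInstance (feit_thompson _ (Nat.coprime_two_right.1
        (L.coprime_card_pPrimeCore 2))), mem_bot] at this
    have := core_bot hq (N := center _) inferInstance (H1.isSolvable_of_isMulCommutative inferInstance)
    exact a1 (mem_bot.1 (this ▸ mem_center_iff.2 fun b =>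
      (commutatorElement_eq_one_iff_mul_comm.1 (hz b)).symm))
  obtain ⟨b, hb, hne⟩ := this
  obtain ⟨g, rfl⟩ := QuotientGroup.mk_surjective b
  refine ⟨t, t⁻¹ * (g * t * g⁻¹), fun h => hne ?_, (QuotientGroup.eq_one_iff _).1 ?_, inv_conj tt⟩
  · have := (QuotientGroup.eq_one_iff _).2 h
    simp only [QuotientGroup.mk_mul, QuotientGroup.mk_inv] at this
    exact (inv_mul_eq_one.1 this).symm
  · simp only [QuotientGroup.mk_mul, QuotientGroup.mk_inv]
    generalize (t : G ⧸ center G) = a at aa hb ⊢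
    generalize (g : G ⧸ center G) = b at hb ⊢
    have bb : b * a * b⁻¹ * (b * a * b⁻¹) = 1 := by
      calc _ = b * (a * a) * b⁻¹ := by group
        _ = 1 := by rw [aa]; group
    rw [inv_eq_of_mul_eq_one_right aa]
    calc a * (b * a * b⁻¹) * (a * (b * a * b⁻¹)) = a * (b * a * b⁻¹ * a) * (b * a * b⁻¹) := by group
      _ = a * a * (b * a * b⁻¹ * (b * a * b⁻¹)) := by rw [← hb.eq]; group
      _ = 1 := by rw [aa, bb, one_mul]

/-- A real element of odd order. -/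
theorem exists_ro : ∃ x : G, RO x := by
  obtain ⟨t, t1, tt⟩ := exists_t hq
  have := Fact.mk Nat.prime_two
  have a1 : (t : G ⧸ center G) ≠ 1 := fun e => t1 ((QuotientGroup.eq_one_iff t).1 e)
  have aa : (t : G ⧸ center G) * t = 1 := (QuotientGroup.eq_one_iff (t * t)).2 tt
  obtain ⟨x, hp, h2, -, b, hx⟩ := L.exists_inverted_of_not_mem_pCore aa (by
    have := (L.isPGroup_pCore (G := G ⧸ center G) 2).isNilpotent
    rw [core_bot hq (N := pCore 2 _) inferInstance inferInstance, mem_bot]; exact a1)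
  obtain ⟨g, rfl⟩ := QuotientGroup.mk_surjective b
  obtain ⟨n, hn⟩ := mem_zpowers_iff.1 hx
  obtain ⟨k, hk⟩ := exists_odd_part ((t⁻¹ * (g * t * g⁻¹)) ^ n)
  refine ⟨_, fun e => ?_, hk, isConj_iff.2 ⟨t, ?_⟩⟩
  · have := congrArg (QuotientGroup.mk (s := center G)) e
    simp only [QuotientGroup.mk_mul, QuotientGroup.mk_inv, QuotientGroup.mk_pow,
      QuotientGroup.mk_zpow, QuotientGroup.mk_one] at this
    rw [inv_eq_of_mul_eq_one_right aa, hn] at this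
    exact h2 ((Nat.prime_dvd_prime_iff_eq hp Nat.prime_two).1
      (hp.dvd_of_dvd_pow (orderOf_dvd_of_pow_eq_one this)))
  · rw [← conj_pow, ← conj_zpow, inv_conj tt, inv_zpow, inv_pow]

end QS

section Hp

variable {s : ℕ} (h : Hp G s)
include h

/-- (B): a noncentral involution does not centralize an element of odd order together with an
element inverting it. -/
theorem inv_central {i x g : G} (ii : i * i = 1) (x1 : x ≠ 1) (ho : Odd (orderOf x))
    (hg : g * x * g⁻¹ = x⁻¹) (ix : Commute i x) (ig : Commute i g) : i ∈ center G := by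
  by_contra hi
  have ii' : i⁻¹ = i := inv_eq_of_mul_eq_one_right ii
  have e1 : (x * i) ^ orderOf x = i := by
    obtain ⟨k, hk⟩ := ho
    rw [ix.symm.mul_pow, pow_orderOf_eq_one, one_mul, hk, pow_succ, pow_mul, pow_two, ii, one_pow,
      one_mul]
  have e2 : g * (x * i) * g⁻¹ = (x * i)⁻¹ := by
    calc g * (x * i) * g⁻¹ = g * x * (i * g⁻¹) := by group
      _ = g * x * g⁻¹ * i := by rw [ig.inv_right.eq]; group
      _ = (x * i)⁻¹ := by rw [hg, mul_inv_rev, ii', ix.inv_right.eq]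
  obtain ⟨S, hS, cS⟩ := h.syl (x * i) (isConj_iff.2 ⟨g, e2⟩) fun hz => hi (e1 ▸ pow_mem hz _)
  obtain ⟨R, hR, cR⟩ := h.syl i (by rw [ii']) hi
  have hle : 𝐂[x * i] ≤ 𝐂[i] := fun w hw => by
    rw [← e1]; exact mem_cent1.2 (Commute.pow_left (mem_cent1.1 hw) _)
  have := sq_of_odd (hR.of_card_eq Nat.prime_two (hS.le.trans hle) (cS.trans cR.symm)) hS.le
    (mem_cent1.2 ig) e2
  refine x1 (eq_one_of_odd ho ?_)
  calc x * x = x * (i * i) * x := by rw [ii, mul_one]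
    _ = x * i * (i * x) := by group
    _ = x * i * (x * i) := by rw [ix.eq]
    _ = 1 := this

theorem card_syl (e : ¬ 4 * s ∣ Nat.card G) {T : Subgroup G} (hT : IsSyl 2 T ⊤) :
    𝐨(T) = 2 * s := by
  obtain ⟨x, x1, ho, hx⟩ := h.ex
  obtain ⟨g, hg⟩ := isConj_iff.1 hx
  have hxx : x * x ≠ 1 := fun e => x1 (eq_one_of_odd ho e)
  obtain ⟨S, hS, cS⟩ := h.syl x hx fun hz => hxx (by
    rw [mem_center_iff.1 hz g, mul_inv_cancel_right] at hg
    exact mul_eq_one_iff_eq_inv.2 hg)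
  obtain ⟨a, ha⟩ := exists_card_eq_pow Nat.prime_two hS.pgrp
  obtain ⟨b, hb⟩ := exists_card_eq_pow Nat.prime_two hT.pgrp
  have h1 := hT.card_dvd Nat.prime_two hS.pgrp le_top
  rw [ha, hb, Nat.pow_dvd_pow_iff_le_right one_lt_two] at h1
  have h2 : a ≠ b := fun e => hxx (sq_of_odd (hT.of_card_eq Nat.prime_two le_top
    (by rw [ha, hb, e])) hS.le (mem_top g) hg)
  have h3 : ¬ a + 2 ≤ b := fun hle => e (by
    refine Dvd.dvd.trans ?_ (card_subgroup_dvd_card T)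
    rw [← cS, ha, hb, show 4 * 2 ^ a = 2 ^ (a + 2) by ring]
    exact pow_dvd_pow 2 hle)
  rw [← cS, ha, hb, show b = a + 1 by omega, pow_succ']

end Hp

theorem zstar_rel {Y T : Subgroup G} (hT : IsSyl 2 T Y) {t : G} (ht : t ∈ T) (tt : t * t = 1)
    (h : ∀ g ∈ Y, g * t * g⁻¹ ∈ T → g * t * g⁻¹ = t) {g : G} (hg : g ∈ Y) :
    ⁅t, g⁆ ∈ H2.pPrimeCoreOf 2 Y := by
  by_cases t1 : t = 1
  · simp [t1]
  have := Fact.mk Nat.prime_two
  obtain ⟨P, hP⟩ := hT.exists_sylow Nat.prime_two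
  exact ⟨_, P1.zstar_sylow P (t := ⟨t, hT.le ht⟩)
    (orderOf_eq_prime (Subtype.ext ((pow_two t).trans tt))
    fun e => t1 (congrArg Subtype.val e)) (hP.ge ht) (fun g hg => Subtype.ext (h g g.2 (hP.le hg)))
    ⟨g, hg⟩, rfl⟩

theorem syl_comp {X S : Subgroup G} (hS : IsSyl 2 S X) {K : Subgroup G} (hK : H2.CompIn ⊤ K) :
    IsSyl 2 (S ⊓ K) (X ⊓ K) := by
  have n1 : X ⊓ H2.layerOf ⊤ ⊲ X := ⟨inf_le_left,
    H1.le_normalizer_inf le_normalizer (le_top.trans (H2.le_normalizer_layerOf ⊤))⟩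
  have n2 : X ⊓ K ⊲ X ⊓ H2.layerOf ⊤ := ⟨inf_le_inf_left _ hK.le_layerOf,
    H1.le_normalizer_inf (inf_le_left.trans le_normalizer)
      (inf_le_right.trans hK.layerOf_le_normalizer)⟩
  have h1 := (hS.inf_normal Nat.prime_two n1).inf_normal Nat.prime_two n2
  rwa [inf_assoc, inf_eq_right.2 n2.1, ← inf_assoc, inf_eq_left.2 hS.le] at h1

end Cfsg.Agent.P30.H8
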