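/-
P30: an involution of `G / Z(G)` outside `O₂`.
-/
import Cfsg.Agent.P30.H8
import Cfsg.Agent.P30.Bas

set_option autoImplicit false
set_option linter.unusedSectionVars false

namespace Cfsg.Agent.P30

open Subgroup Cfsg Cfsg.Agent Cfsg.Agent.FT

universe u

namespace H8

variable {G : Type u} [Group G] [Finite G] {s : ℕ} (h : Hp G s)
include h

theorem fit_eq : fittingOf (⊤ : Subgroup G) = pCore 2 G := by
  rw [fittingOf_eq_pCoreOf Nat.prime_two (by rw [H2.pPrimeCoreOf_top, h.od]), H2.pCoreOf_top]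

theorem exists_comp : ∃ K : Subgroup G, H2.CompIn ⊤ K := by
  refine H2.exists_compIn_of_layerOf_ne_bot fun e => ?_
  obtain ⟨x, hx⟩ := h.ex
  have h1 := H2.inf_centralizer_fittingOf_le_of_layerOf_eq_bot e
  rw [fit_eq h] at h1
  have h2 : x ∈ pCore 2 G := h1 ⟨trivial, fun w hw => (mem_cent1.1 (h.core_cent hx hw)).symm⟩
  obtain ⟨k, hk⟩ := L.isPGroup_pCore (G := G) 2 ⟨x, h2⟩
  exact hx.1 (eq_one_of_two ⟨k, congrArg Subtype.val hk⟩ hx.2.1)

theorem comp_cent {K : Subgroup G} (hK : H2.CompIn ⊤ K) {y : G} (hy : y ∈ pCore 2 G) :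
    K ≤ 𝐂[y] := fun w hw => by
  have := H2.layerOf_le_centralizer_fittingOf ⊤ (hK.le_layerOf hw)
  rw [fit_eq h] at this
  exact mem_cent1.2 (this y hy)

end H8

theorem exStmt : ExStmt.{u} := fun G _ _ s h => by
  obtain ⟨K, hK⟩ := H8.exists_comp h
  obtain ⟨t, y, y1, yy, hy⟩ := H8.exists_y hK.2
  obtain ⟨x, x1, ho, hx⟩ := H8.exists_ro hK.2
  obtain ⟨g, hg⟩ := isConj_iff.1 hx
  have hc := mem_center_iff.1 yy
  have y4 : y * y * (y * y) = 1 := by
    have : t * (y * y) * t⁻¹ = (y * y)⁻¹ := by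
      calc _ = t * y * t⁻¹ * (t * y * t⁻¹) := by group
        _ = _ := by rw [hy, mul_inv_rev]
    rw [hc t, mul_inv_cancel_right] at this
    exact mul_eq_one_iff_eq_inv.2 this
  refine ⟨y, fun hy => y1 (mem_center_iff.2 fun w => Subtype.ext
    (mem_cent1.1 (H8.comp_cent h hK hy w.2)).symm), ?_⟩
  exact h.invol (x := (x : G)) (g := (g : G)) (i := (y : G) * y) (congrArg Subtype.val y4) (fun e => x1 (Subtype.ext e))
    (by rwa [orderOf_coe]) (mem_cent1.2 (congrArg Subtype.val (hc x)).symm)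
    (mem_cent1.2 (congrArg Subtype.val (hc g)).symm) (congrArg Subtype.val hg)

end Cfsg.Agent.P30
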