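/-
P30: the case `a = 1` reduces to a component.
-/
import Cfsg.Agent.P30.Ex

set_option autoImplicit false
set_option linter.unusedSectionVars false

namespace Cfsg.Agent.P30

open Subgroup Cfsg Cfsg.Agent Cfsg.Agent.FT
open scoped commutatorElement

universe u

namespace H8

variable {G : Type u} [Group G] [Finite G] {s : ℕ} (h : Hp G s) (e : ¬ 4 * s ∣ Nat.card G)
  {K : Subgroup G} (hK : H2.CompIn ⊤ K)
include h

include e in
theorem relIndex_two {S T : Subgroup G} (hT : IsSyl 2 T ⊤) (hle : S ≤ T) (hs : 𝐨(S) = s) :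
    S.relIndex T = 2 := by
  have := H1.card_mul_relIndex hle
  rw [card_syl h e hT, ← hs, mul_comm 2] at this
  exact Nat.eq_of_mul_eq_mul_left Nat.card_pos this

include hK in
theorem od_comp : H2.pPrimeCoreOf 2 K = ⊥ := by
  rw [hK.1.pPrimeCoreOf_eq, H2.pPrimeCoreOf_top, h.od, bot_inf_eq]

include e hK in
/-- An involution of `K` that centralizes a Sylow 2-subgroup of `K` centralizes `K`. -/
theorem inv_cent {i : G} {R : Subgroup G} (hi : i ∈ K) (ii : i * i = 1) (hR : IsSyl 2 R K)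
    (hc : R ≤ 𝐂[i]) : K ≤ 𝐂[i] := by
  by_contra hn
  have i2 : P21.Two i := ⟨1, by rw [pow_one, pow_two, ii]⟩
  have pi : IsPGroup 2 (zpowers i) := by
    obtain ⟨k, hk⟩ := i2
    rintro ⟨_, n, rfl⟩
    exact ⟨k, Subtype.ext (by
      change (i ^ n) ^ 2 ^ k = 1
      rw [← zpow_natCast, ← zpow_mul, mul_comm, zpow_mul, zpow_natCast, hk, one_zpow])⟩
  obtain ⟨x, hp, h2, hx, -⟩ := L.exists_inverted_of_not_mem_pCore ii fun hy =>
    hn (comp_cent h hK hy)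
  obtain ⟨S, c⟩ := h.exists_cf' (fun e => hp.one_lt.ne' (by rw [e, orderOf_one]))
    (hp.odd_of_ne_two h2) hx i2
  obtain ⟨T, hT, hle⟩ := exists_isSyl_ge Nat.prime_two
    (isPGroup_sup pi c.pgrp (zpowers_le.2 c.nrm)) (le_top : zpowers i ⊔ S ≤ ⊤)
  have iT : i ∈ T := hle (mem_sup_left (mem_zpowers i))
  have i2 := relIndex_two h e hT (le_sup_right.trans hle) c.card
  have sq : ∀ g : G, g * i * g⁻¹ * (g * i * g⁻¹) = 1 := fun g => by
    calc _ = g * (i * i) * g⁻¹ := by group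
      _ = 1 := by rw [ii]; group
  have X : ∀ g : G, g * i * g⁻¹ ∈ T → g * i * g⁻¹ ∈ 𝐂[i] →
      i * (g * i * g⁻¹) ∈ center G ∧ i * (g * i * g⁻¹) * (i * (g * i * g⁻¹)) = 1 := by
    intro g hg hcg
    have hcg := mem_cent1.1 hcg
    have jS : g * i * g⁻¹ ∉ S := fun hS => hn fun w _ => by
      have hz := c.E h hS (sq g) hcg.symm
      have : i = g * i * g⁻¹ := by
        calc i = g⁻¹ * (g * i * g⁻¹) * g := by group
          _ = _ := by rw [mem_center_iff.1 hz g⁻¹]; group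
      rw [← this] at hz
      exact mem_cent1.2 (mem_center_iff.1 hz w).symm
    have h1 : i * (g * i * g⁻¹) ∈ S :=
      (mul_mem_iff_of_index_two (H := S.subgroupOf T) i2 (a := ⟨i, iT⟩) (b := ⟨_, hg⟩)).2
        (iff_of_false c.not_mem jS)
    have h2 : i * (g * i * g⁻¹) * (i * (g * i * g⁻¹)) = 1 := by
      nth_rewrite 2 [hcg]
      calc _ = i * (g * i * g⁻¹ * (g * i * g⁻¹)) * i := by group
        _ = 1 := by rw [sq g, mul_one, ii]
    exact ⟨c.E h h1 h2 (by rw [mul_assoc, ← hcg]), h2⟩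
  have hTK : IsSyl 2 (T ⊓ K) K := by simpa using syl_comp hT hK
  obtain ⟨k, hk, ek⟩ := hTK.exists_conj_eq Nat.prime_two hR
  have iR : i ∈ R := hR.le_of_norm Nat.prime_two pi (zpowers_le.2 hi)
    (zpowers_le.2 (centralizer_le_normalizer _ (fun w hw => (mem_cent1.1 (hc hw)).symm)))
    (mem_zpowers i)
  have cj : T ⊓ K ≤ 𝐂[k * i * k⁻¹] := by
    rw [← ek]
    rintro _ ⟨w, hw, rfl⟩
    refine mem_cent1.2 ?_
    change k * i * k⁻¹ * (k * w * k⁻¹) = k * w * k⁻¹ * (k * i * k⁻¹)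
    calc _ = k * (i * w) * k⁻¹ := by group
      _ = _ := by rw [mem_cent1.1 (hc hw)]; group
  have shift : ∀ {a b : G}, a * b ∈ center G → 𝐂[a] ≤ 𝐂[b] := fun {a b} hz w hw => by
    have h1 := mem_center_iff.1 hz w
    refine mem_cent1.2 (mul_left_cancel (a := a) ?_)
    rw [← mul_assoc, ← h1, ← mul_assoc, ← mul_assoc, mem_cent1.1 hw]
  have ci : T ⊓ K ≤ 𝐂[i] := by
    have h1 := mem_cent1_comm.1 (cj ⟨iT, hi⟩)
    have h2 := (X k (ek.le (conj_mem_conj iR k)).1 h1).1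
    rw [mem_cent1.1 h1] at h2
    exact cj.trans (shift h2)
  refine hn fun g hg => mem_cent1.2 (commutatorElement_eq_one_iff_mul_comm.1 ?_)
  have := zstar_rel hTK (t := i) ⟨iT, hi⟩ ii (fun g hg hj => ?_) hg
  · rwa [od_comp h hK, mem_bot] at this
  obtain ⟨h1, h2⟩ := X g hj.1 (ci hj)
  refine mem_cent1_iff_conj.1 (fix_of_odd hTK ci hg (shift h1) (mem_cent1_iff_conj.2 ?_))
  obtain ⟨z, hz⟩ : ∃ z, z = i * (g * i * g⁻¹) := ⟨_, rfl⟩
  rw [← hz] at h1 h2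
  have h3 : g * i * g⁻¹ = i * z := by rw [hz, ← mul_assoc, ii, one_mul]
  calc g * g * i * (g * g)⁻¹ = g * (g * i * g⁻¹) * g⁻¹ := by group
    _ = g * i * (z * g⁻¹) := by rw [h3]; group
    _ = g * i * g⁻¹ * z := by rw [← mem_center_iff.1 h1 g⁻¹]; group
    _ = i := by rw [h3, mul_assoc, h2, mul_one]

include e hK in
theorem idx {y : K} (hy : IsConj y y⁻¹) (hz : y ∉ center K) :
    ∃ S : Subgroup K, IsSyl 2 S 𝐂[y] ∧ ∀ R, IsSyl 2 R K → 𝐨(R) = 2 * 𝐨(S) := by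
  obtain ⟨g, hg⟩ := isConj_iff.1 hy
  have hg' : (g : G) * y * (g : G)⁻¹ = (y : G)⁻¹ := congrArg Subtype.val hg
  have hn : ¬ K ≤ 𝐂[(y : G)] := fun hle =>
    hz (mem_center_iff.2 fun w => Subtype.ext (mem_cent1.1 (hle w.2)).symm)
  obtain ⟨S, hS, cS⟩ := h.syl y (real_of hg') fun hc => hn fun w _ =>
    mem_cent1.2 (mem_center_iff.1 hc w).symm
  obtain ⟨T, hT, hle⟩ := exists_isSyl_ge Nat.prime_two hS.pgrp (le_top : S ≤ ⊤)
  have hTK : IsSyl 2 (T ⊓ K) K := by simpa using syl_comp hT hK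
  have r2 : S.relIndex (T ⊓ K) = 2 := by
    have h0 : S.relIndex (T ⊓ K) ≠ 0 := L.relIndex_ne_zero _ _
    have h1 : S.relIndex (T ⊓ K) ≠ 1 := fun e1 => by
      have hc := (relIndex_eq_one.1 e1).trans hS.le
      exact hn (inv_cent h e hK y.2 (sq_of_odd hTK hc g.2 hg') hTK hc)
    have h2 := relIndex_le_of_le_right (H := S) (inf_le_left : T ⊓ K ≤ T) (L.relIndex_ne_zero _ _)
    rw [relIndex_two h e hT hle cS] at h2
    omega
  refine ⟨S.subgroupOf K, (isSyl_map_iff K.subtype_injective).1 ?_, fun R hR => ?_⟩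
  · have : (𝐂[y]).map K.subtype = 𝐂[(y : G)] ⊓ K := by
      ext w
      exact ⟨by rintro ⟨w, hw, rfl⟩; exact ⟨mem_cent1.2 (congrArg Subtype.val (mem_cent1.1 hw)), w.2⟩,
        fun hw => ⟨⟨w, hw.2⟩, mem_cent1.2 (Subtype.ext (mem_cent1.1 hw.1)), rfl⟩⟩
    rw [subgroupOf_map_subtype, this]
    exact syl_comp hS hK
  · rw [hR.card_eq Nat.prime_two hTK, ← H1.card_mul_relIndex (inf_le_right : S ⊓ (T ⊓ K) ≤ T ⊓ K),
      inf_relIndex_right, r2, ← inf_assoc, inf_eq_left.2 hle, mul_comm, ← subgroupOf_map_subtype,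
      card_map_of_injective K.subtype_injective]

end H8

theorem a1Stmt (hQ : QsStmt.{u}) : A1Stmt.{u} := fun G _ _ s h e => by
  obtain ⟨K, hK⟩ := H8.exists_comp h
  obtain ⟨R, hR⟩ := exists_isSyl Nat.prime_two K
  obtain ⟨t, y, y1, -, hy⟩ := H8.exists_y hK.2
  obtain ⟨S, -, hS⟩ := H8.idx h e hK (real_of hy) y1
  refine hQ K 𝐨(S) ⟨?_, fun z hz z1 => ?_, H8.exists_ro hK.2⟩ (fun hd => hR.ndvd ?_) hK.2.2
  · exact (map_eq_bot_iff_of_injective _ K.subtype_injective).1 (H8.od_comp h hK)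
  · obtain ⟨S', h1, h2⟩ := H8.idx h e hK hz z1
    exact ⟨S', h1, by have := h2 R hR; have := hS R hR; omega⟩
  · rw [← H1.card_mul_relIndex hR.le, show 4 * 𝐨(S) = 𝐨(R) * 2 by rw [hS R hR]; ring] at hd
    exact Nat.dvd_of_mul_dvd_mul_left Nat.card_pos hd

end Cfsg.Agent.P30
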