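/-
P30, A1: reduction of the case `a = 1` to the case that `G / Z` is simple.
-/
import Cfsg.Agent.P30.Bas
import Cfsg.Agent.P19.G2
import Cfsg.Agent.P15.NM1
import Cfsg.Agent.H6.HalfClass1
import Cfsg.Agent.H5.Real

set_option autoImplicit false
set_option linter.unusedSectionVars false

namespace Cfsg.Agent.P30

open Subgroup Cfsg Cfsg.Agent Cfsg.Agent.FT
open Cfsg.Agent.P21 (Two)

universe u

namespace A9

variable {G : Type u} [Group G] [Finite G] {s : ℕ}

theorem exists_T {x τ : G} {S : Subgroup G} (c : Cf s x S τ) (h4 : ¬ 4 * s ∣ Nat.card G) :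
    ∃ T : Subgroup G, IsSyl 2 T ⊤ ∧ ∀ y, y ∈ T ↔ y ∈ S ∨ τ * y ∈ S := by
  have n : ∀ a ∈ S, τ * a * τ⁻¹ ∈ S := fun a ha => (mem_normalizer_iff.1 c.nrm a).1 ha
  let T : Subgroup G :=
    { carrier := {g | g ∈ S ∨ τ * g ∈ S}
      one_mem' := Or.inl (one_mem _)
      mul_mem' := by
        rintro a b (ha | ha) (hb | hb)
        · exact Or.inl (mul_mem ha hb)
        · refine Or.inr ?_
          have := mul_mem (n a ha) hb
          rwa [show τ * a * τ⁻¹ * (τ * b) = τ * (a * b) by group] at this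
        · exact Or.inr (mul_assoc τ a b ▸ mul_mem ha hb)
        · refine Or.inl ((mem_normalizer_iff.1 c.nrm _).2 ?_)
          have h2 := mul_mem ha (mul_mem (inv_mem c.sq) (n _ hb))
          rwa [show τ * a * ((τ * τ)⁻¹ * (τ * (τ * b) * τ⁻¹)) = τ * (a * b) * τ⁻¹ by group] at h2
      inv_mem' := by
        rintro a (ha | ha)
        · exact Or.inl (inv_mem ha)
        · refine Or.inr ?_
          have := mul_mem (n _ (inv_mem ha)) c.sq
          rwa [show τ * (τ * a)⁻¹ * τ⁻¹ * (τ * τ) = τ * a⁻¹ by group] at this }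
  have ST : S ≤ T := fun _ h => Or.inl h
  have iT : S.relIndex T = 2 := by
    rw [relIndex_eq_two_iff_exists_notMem_and']
    exact ⟨τ, Or.inr c.sq, c.not_mem, fun b hb => hb.symm⟩
  have cT : 𝐨(T) = 2 * s := by rw [← H1.card_mul_relIndex ST, iT, c.card, mul_comm]
  obtain ⟨k, hk⟩ := exists_card_eq_pow Nat.prime_two c.pgrp
  refine ⟨T, ⟨le_top, isPGroup_of_card_eq (n := k + 1) (by rw [cT, ← c.card, hk]; ring), ?_⟩,
    fun _ => Iff.rfl⟩
  rintro ⟨m, hm⟩
  rw [relIndex_top_right] at hm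
  exact h4 ⟨m, by rw [← T.card_mul_index, cT, hm]; ring⟩

/-- A 2-element of `N` normalizing `K = N ⊓ C(i)` centralizes `i` if `K` has odd index in `N`. -/
theorem mem_cent {N V : Subgroup G} {i m : G} (hV : IsSyl 2 V N) (hc : V ≤ 𝐂[i]) (hm : m ∈ N)
    (h2 : Two m) (hn : m ∈ 𝐍(𝐂[i])) : m ∈ 𝐂[i] := by
  have h1 : m ∈ 𝐍((N ⊓ 𝐂[i] : Subgroup G)) := inf_normalizer_le_normalizer_inf ⟨le_normalizer hm, hn⟩
  obtain ⟨W, hW, -, nW, -⟩ := exists_syl h1 h2 (P := ⊥) IsPGroup.of_bot bot_le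
    (by rw [normalizer_eq_top]; trivial)
  have hW' : IsSyl 2 W N := hV.of_card_eq Nat.prime_two (hW.le.trans inf_le_left)
    (hW.card_eq Nat.prime_two (hV.of_le (le_inf hV.le hc) inf_le_left))
  exact (hW.le (hW'.le_of_norm Nat.prime_two h2.zp (zpowers_le.2 hm) (zpowers_le.2 nW)
    (mem_zpowers m))).2

theorem odd_pow_two (g : G) : ∃ m : ℕ, Odd m ∧ Two (g ^ m) :=
  let ⟨k, m, h1, h2, _⟩ := exists_parts g; ⟨m, h1, k, h2⟩

theorem pow_inv {x g : G} (h : g * x * g⁻¹ = x⁻¹) {m : ℕ} (hm : Odd m) :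
    g ^ m * x * (g ^ m)⁻¹ = x⁻¹ := by
  obtain ⟨k, rfl⟩ := hm
  have h1 : Commute x (g * g) := mem_cent1.1 (sq_cent_of_inv h)
  have h2 : Commute x⁻¹ ((g * g) ^ k) := (h1.pow_right k).inv_left
  calc g ^ (2 * k + 1) * x * (g ^ (2 * k + 1))⁻¹
      = (g * g) ^ k * (g * x * g⁻¹) * ((g * g) ^ k)⁻¹ := by rw [pow_succ, pow_mul, sq]; group
    _ = x⁻¹ := by rw [h, ← h2.eq]; group

theorem key (h : Hp G s) (h4 : ¬ 4 * s ∣ Nat.card G) {N : Subgroup G} [hN : N.Normal] {x g : G}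
    (hx : x ∈ N) (hg : g ∈ N) (x1 : x ≠ 1) (xo : Odd (orderOf x)) (hi : g * x * g⁻¹ = x⁻¹) {j : G}
    (hj : j ∈ N) (jj : j * j = 1) {U : Subgroup G} (hU : IsSyl 2 U N) (hc : U ≤ 𝐂[j]) :
    N ≤ 𝐂[j] := by
  by_cases hz : j ∈ center G
  · exact fun n _ => mem_cent1.2 (mem_center_iff.1 hz n).symm
  obtain ⟨m, mo, m2⟩ := odd_pow_two g
  have hτ := pow_mem hg m
  obtain ⟨S, c⟩ := h.exists_cf' x1 xo (pow_inv hi mo) m2
  generalize g ^ m = τ at hτ c m2
  obtain ⟨T, hT, mT⟩ := exists_T c h4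
  have hV : IsSyl 2 (T ⊓ N) N := hT.inf_normal Nat.prime_two ⟨le_top, le_normalizer_of_normal⟩
  obtain ⟨n, hn, e⟩ := hV.exists_conj_eq Nat.prime_two hU
  have cj : ∀ a b : G, b * b = 1 → a * b * a⁻¹ * (a * b * a⁻¹) = 1 := fun a b e => by
    calc _ = a * (b * b) * a⁻¹ := by group
      _ = 1 := by rw [e]; group
  have cz : ∀ a b : G, a * b * a⁻¹ ∈ center G → b ∈ center G := fun a b e => by
    have := (inferInstance : (center G).Normal).conj_mem _ e a⁻¹
    simpa [mul_assoc] using this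
  set i := n * j * n⁻¹ with hi'
  have iN : i ∈ N := hN.conj_mem j hj n
  have ii : i * i = 1 := cj n j jj
  have iz : i ∉ center G := fun e => hz (cz n j e)
  have ci : T ⊓ N ≤ 𝐂[i] := by
    rw [← e]
    rintro _ ⟨a, ha, rfl⟩
    have := mem_cent1.1 (hc ha)
    refine mem_cent1.2 ?_
    calc n * j * n⁻¹ * (n * a * n⁻¹) = n * (j * a) * n⁻¹ := by group
      _ = n * a * n⁻¹ * (n * j * n⁻¹) := by rw [this]; group
  have i2 : Two i := ⟨1, by rw [pow_one, sq, ii]⟩
  have iV : i ∈ T ⊓ N := hV.le_of_le_norm Nat.prime_two i2.zp (zpowers_le.2 iN)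
    (ci.trans ((cent_zpowers i).ge.trans (centralizer_le_normalizer _))) (mem_zpowers i)
  have xS : ∀ a ∈ S, x ∈ 𝐂[a] := fun a ha => mem_cent1.2 (mem_cent1.1 (c.syl.le ha)).symm
  have τT : τ ∈ T := (mT τ).2 (Or.inr c.sq)
  have iS : τ * i ∈ S := ((mT i).1 iV.1).resolve_left fun e =>
    iz (h.invol ii x1 xo (xS i e) (ci ⟨τT, hτ⟩) c.inv)
  have ix : i * x * i⁻¹ = x⁻¹ := by
    have h1 := mem_cent1.1 (c.syl.le iS)
    have h2 := mem_cent1.1 (sq_cent_of_inv c.inv)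
    calc i * x * i⁻¹ = τ⁻¹ * (τ * i * x) * i⁻¹ := by group
      _ = τ⁻¹ * x * τ := by rw [← h1]; group
      _ = τ⁻¹ * (x * (τ * τ)) * τ⁻¹ := by group
      _ = x⁻¹ := by rw [h2, ← c.inv]; group
  have iso : ∀ a ∈ N, a * i * a⁻¹ ∈ T ⊓ N → a * i * a⁻¹ = i := fun a ha hk => by
    have kk := cj a i ii
    have ik : i * (a * i * a⁻¹) = a * i * a⁻¹ * i := mem_cent1.1 (ci hk)
    have kS : τ * (a * i * a⁻¹) ∈ S := ((mT _).1 hk.1).resolve_left fun e =>
      iz (cz a i (h.invol kk x1 xo (xS _ e) (mem_cent1.2 ik.symm) ix))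
    have σS : i * (a * i * a⁻¹) ∈ S := by
      have := mul_mem (inv_mem iS) kS
      rwa [show (τ * i)⁻¹ * (τ * (a * i * a⁻¹)) = i⁻¹ * (a * i * a⁻¹) by group,
        inv_eq_of_mul_eq_one_right ii] at this
    have σσ : i * (a * i * a⁻¹) * (i * (a * i * a⁻¹)) = 1 := by
      calc _ = i * (a * i * a⁻¹ * i) * (a * i * a⁻¹) := by group
        _ = (i * i) * (a * i * a⁻¹ * (a * i * a⁻¹)) := by rw [← ik]; group
        _ = 1 := by rw [ii, kk, one_mul]
    have σZ : i * (a * i * a⁻¹) ∈ center G := h.invol σσ x1 xo (xS _ σS)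
      (mem_cent1.2 (by rw [mul_assoc, ← ik])) ix
    obtain ⟨σ, hσ⟩ : ∃ σ, σ = i * (a * i * a⁻¹) := ⟨_, rfl⟩
    have e1 : a * i * a⁻¹ = i * σ := by rw [hσ, ← mul_assoc i i, ii, one_mul]
    rw [← hσ] at σσ σZ
    have cσ : ∀ b : G, b * σ = σ * b := mem_center_iff.1 σZ
    have e2 : ∀ k : ℕ, a ^ k * i * (a ^ k)⁻¹ = i * σ ^ k := fun k => by
      induction k with
      | zero => simp
      | succ k ih =>
        calc a ^ (k + 1) * i * (a ^ (k + 1))⁻¹ = a ^ k * (a * i * a⁻¹) * (a ^ k)⁻¹ := by group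
          _ = a ^ k * i * (σ * (a ^ k)⁻¹) := by rw [e1]; group
          _ = i * σ ^ (k + 1) := by rw [← cσ, ← mul_assoc, ih, pow_succ, mul_assoc]
    obtain ⟨k, ⟨l, hl⟩, k2⟩ := odd_pow_two a
    have e3 : a ^ k * i * (a ^ k)⁻¹ = i * σ := by
      rw [e2, hl, pow_succ, pow_mul, sq, σσ, one_pow, one_mul]
    have := mem_cent hV ci (pow_mem ha k) k2 (mem_normalizer_fintype fun b hb => by
      have hb' : i * b = b * i := mem_cent1.1 hb
      refine mem_cent1.2 (mul_right_cancel (b := σ) ?_)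
      generalize a ^ k = w at e3
      calc i * (w * b * w⁻¹) * σ = (i * σ) * (w * b * w⁻¹) := by rw [mul_assoc, cσ]; group
        _ = w * (i * b) * w⁻¹ := by rw [← e3]; group
        _ = w * b * w⁻¹ * (w * i * w⁻¹) := by rw [hb']; group
        _ = _ := by rw [e3]; group)
    rw [e1, ← e3, ← mem_cent1.1 this, mul_inv_cancel_right]
  have z : ∀ a ∈ N, i * a = a * i := fun a ha => by
    obtain ⟨b, hb, e⟩ := P19.G2.zstar_rel hV iV (by rw [sq, ii]) iso ha
    rw [H6.Half.Data.core_eq_bot h.od N, SetLike.mem_coe, mem_bot] at hb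
    rw [hb] at e
    exact commutatorElement_eq_one_iff_mul_comm.1 e.symm
  have : i = j := by
    have := z n hn
    calc i = n⁻¹ * (n * i) := by group
      _ = n⁻¹ * i * n := by rw [← this]; group
      _ = j := by rw [hi']; group
  exact fun a ha => mem_cent1.2 (this ▸ z a ha)

theorem sub (h : Hp G s) (h4 : ¬ 4 * s ∣ Nat.card G) (N : Subgroup G) [hN : N.Normal] {x : N}
    (hx : RO x) : ∃ s', Hp N s' ∧ ¬ 4 * s' ∣ 𝐨(N) := by
  obtain ⟨g, hg⟩ := isConj_iff.1 hx.2.2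
  have idx : ∀ y : N, IsConj y y⁻¹ → y ∉ center N →
      ((𝐂[y] : Subgroup N).index).factorization 2 = 1 := fun y hy hz => by
    obtain ⟨w, hw⟩ := isConj_iff.1 hy
    have e : (𝐂[y] : Subgroup N).index = (𝐂[(y : G)] : Subgroup G).relIndex N := by
      unfold relIndex
      congr 1
      ext a
      rw [mem_subgroupOf, mem_cent1, mem_cent1, Subtype.ext_iff]; rfl
    have h0 : (𝐂[y] : Subgroup N).index ≠ 0 := index_ne_zero_of_finite
    have h2 : 2 ∣ (𝐂[y] : Subgroup N).index := by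
      by_contra h2
      obtain ⟨P, hP⟩ := exists_isSyl Nat.prime_two (𝐂[y] : Subgroup N)
      have hP' : IsSyl 2 P ⊤ := hP.trans Nat.prime_two le_top (by rwa [relIndex_top_right])
      obtain ⟨m, mo, m2⟩ := odd_pow_two w
      have h3 := pow_inv hw mo
      have h5 := mem_cent1.1 (mem_cent hP' hP.le (mem_top _) m2 (norm_cent_of_inv h3))
      rw [← h5, mul_inv_cancel_right] at h3
      have yy : y * y = 1 := by nth_rw 2 [h3]; simp
      have hU := (isSyl_map_iff N.subtype_injective).2 hP'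
      rw [← MonoidHom.range_eq_map, range_subtype] at hU
      have := key h h4 x.2 g.2 (fun e => hx.1 (Subtype.ext e)) (by rw [orderOf_coe]; exact hx.2.1)
        (congrArg Subtype.val hg) y.2 (congrArg Subtype.val yy) hU (by
          rintro _ ⟨a, ha, rfl⟩
          exact mem_cent1.2 (congrArg Subtype.val (mem_cent1.1 (hP.le ha))))
      exact hz (mem_center_iff.2 fun a => Subtype.ext (mem_cent1.1 (this a.2)).symm)
    have h3 : ¬ 2 ^ 2 ∣ (𝐂[y] : Subgroup N).index := fun h3 => by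
      obtain ⟨S, hS, cS⟩ := h.syl y (isConj_iff.2 ⟨w, congrArg Subtype.val hw⟩) fun e =>
        hz (mem_center_iff.2 fun a => Subtype.ext (mem_center_iff.1 e a))
      rw [e] at h3
      have h5 := h3.trans (P15.N7.relIndex_dvd_index (le_normalizer_of_normal (H := N)))
      refine h4 ?_
      rw [← (𝐂[(y : G)] : Subgroup G).card_mul_index, mul_comm, ← cS]
      exact Nat.mul_dvd_mul (Subgroup.card_dvd_of_le hS.le) h5
    have a1 := (Nat.prime_two.dvd_iff_one_le_factorization h0).1 h2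
    have a2 := mt (Nat.prime_two.pow_dvd_iff_le_factorization h0).2 h3
    omega
  have fac : ∀ y : N, IsConj y y⁻¹ → y ∉ center N →
      (𝐨(N)).factorization 2 = (𝐨((𝐂[y] : Subgroup N))).factorization 2 + 1 := fun y hy hz => by
    rw [← (𝐂[y] : Subgroup N).card_mul_index, Nat.factorization_mul Nat.card_pos.ne'
      index_ne_zero_of_finite, Finsupp.add_apply, idx y hy hz]
  have xz : x ∉ center N := fun e =>
    not_comm_of_inv hx.1 hx.2.1 hg (mem_cent1.2 (mem_center_iff.1 e g).symm)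
  refine ⟨2 ^ ((𝐨(N)).factorization 2 - 1), ⟨H6.Half.Data.core_eq_bot h.od N, fun y hy hz => ?_, x, hx⟩,
    fun e => ?_⟩
  · obtain ⟨P, hP⟩ := exists_isSyl Nat.prime_two (𝐂[y] : Subgroup N)
    exact ⟨P, hP, by rw [hP.card_eq_pow_factorization Nat.prime_two, fac y hy hz]; simp⟩
  · have h1 := fac x hx.2.2 xz
    rw [show 4 = 2 ^ 2 from rfl, ← pow_add,
      Nat.prime_two.pow_dvd_iff_le_factorization Nat.card_pos.ne'] at e
    omega

theorem odd_eq_one (hO : pPrimeCore 2 G = ⊥) (hr : ∀ x : G, ¬ RO x) (hc : pCore 2 G ≤ center G)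
    {x : G} (hx : Odd (orderOf x)) : x = 1 := by
  haveI := Fact.mk Nat.prime_two
  obtain ⟨P⟩ : Nonempty (Sylow 2 G) := inferInstance
  have n := H5.sylow_two_normal_of_not_real (fun y g o e => by
    by_contra y1; exact hr y ⟨y1, o, real_of e⟩) P
  have h1 := H8.hasNPC_of_normalizer_le_centralizer P fun g _ => mem_centralizer_iff.2 fun a ha =>
    (mem_center_iff.1 (hc (L.le_pCore n P.isPGroup' ha)) g).symm
  have := H8.hasNPC_iff_forall_mem_pPrimeCore.1 h1 x (Nat.coprime_two_right.2 hx)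
  rwa [hO, mem_bot] at this

end A9

theorem a1Stmt' (hQ : QsStmt.{u}) : A1Stmt.{u} := fun G _ _ => by
  refine L.induction_on_card (P := fun G _ _ => ∀ s, Hp G s → ¬ 4 * s ∣ Nat.card G → False) G ?_
  intro G _ _ ih s h h4
  have hr : ∀ (N : Subgroup G) [N.Normal], N ≠ ⊤ → pCore 2 G ⊓ N ≤ 𝐂(N) → ∀ x ∈ N,
      Odd (orderOf x) → x = 1 := fun N _ hN hc x hx xo => by
    refine congrArg Subtype.val (A9.odd_eq_one (H6.Half.Data.core_eq_bot h.od N) (fun y hy => ?_)
      (fun a ha => ?_) (x := ⟨x, hx⟩) (by rwa [← orderOf_coe]))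
    · obtain ⟨s', h1, h2⟩ := A9.sub h h4 N hy
      exact ih N (L.card_lt_of_ne_top hN) s' h1 h2
    · have := hc (L.map_subtype_pCore Nat.prime_two N ▸ mem_map_of_mem N.subtype ha)
      exact mem_center_iff.2 fun b => Subtype.ext (mem_centralizer_iff.1 this b b.2)
  obtain ⟨x, hx⟩ := h.ex
  haveI := L.pCore_characteristic (G := G) Nat.prime_two
  have hC : 𝐂(pCore 2 G) = ⊤ := by
    by_contra e
    exact hx.1 (hr _ e (inf_le_left.trans (le_centralizer_iff.1 le_rfl)) x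
      (mem_centralizer_iff.2 fun a ha => (mem_cent1.1 (h.core_cent hx ha)).symm) hx.2.1)
  have hZ : pCore 2 G ≤ center G := fun a ha => mem_center_iff.2 fun g =>
    (mem_centralizer_iff.1 (hC.ge (mem_top g)) a ha).symm
  have xz : x ∉ center G := fun e => hx.1 (h.odd_center hx.2.1 e)
  haveI : Nontrivial (G ⧸ center G) := ⟨⟨(x : G ⧸ center G), 1, fun e =>
    xz ((QuotientGroup.eq_one_iff x).1 e)⟩⟩
  refine hQ G s h h4 ⟨fun M hM => ?_⟩
  by_cases e : M.comap (QuotientGroup.mk' (center G)) = ⊤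
  · refine Or.inr (eq_top_iff.2 fun a _ => ?_)
    obtain ⟨a, rfl⟩ := QuotientGroup.mk'_surjective _ a
    exact e.ge (mem_top a)
  refine Or.inl (eq_bot_iff.2 fun a ha => ?_)
  obtain ⟨a, rfl⟩ := QuotientGroup.mk'_surjective _ a
  have h1 := hr _ e (inf_le_left.trans (hZ.trans (center_le_centralizer _)))
  have h2 : IsPGroup 2 (M.comap (QuotientGroup.mk' (center G))) := fun b => by
    obtain ⟨k, m, -, -, h3⟩ := exists_parts (b : G)
    exact ⟨k, Subtype.ext (h1 _ (pow_mem b.2 _) h3)⟩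
  exact (QuotientGroup.eq_one_iff a).2 (hZ (L.le_pCore inferInstance h2 ha))

end Cfsg.Agent.P30
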