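/-
P30: the core statement from the abstract theorem on `G / Z(G)`.
-/
import Cfsg.Agent.P30.Bas
import Cfsg.Agent.P30.Core
import Cfsg.Agent.H6.HalfClass2

set_option autoImplicit false
set_option linter.unusedSectionVars false

namespace Cfsg.Agent.P30

open Subgroup Cfsg Cfsg.Agent Cfsg.Agent.FT
open Cfsg.Agent.P21 (Two)
open scoped commutatorElement

universe u

namespace CW

variable {G : Type u} [Group G]

/-- The projection to the central quotient. -/
abbrev pj : G →* G ⧸ center G := QuotientGroup.mk' (center G)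

theorem pj_surj (l : G ⧸ center G) : ∃ g : G, pj g = l := QuotientGroup.mk'_surjective _ l

theorem pj_one {g : G} : pj g = 1 ↔ g ∈ center G := QuotientGroup.eq_one_iff g

theorem pj_eq {a b : G} (h : pj a = pj b) : ∃ z ∈ center G, a = b * z :=
  ⟨b⁻¹ * a, pj_one.1 (by rw [map_mul, map_inv, h, inv_mul_cancel]), by group⟩

/-- Elements with a very real lift. -/
def Re (G : Type u) [Group G] : Set (G ⧸ center G) := {l | ∃ y : G, VR y ∧ pj y = l}

/-- The image of the centralizer of a lift. -/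
def Cl (e : G ⧸ center G) : Subgroup (G ⧸ center G) :=
  ⨅ y : {y : G // pj y = e}, (𝐂[(y : G)]).map pj

theorem mem_Cl {g y : G} : pj g ∈ Cl (pj y) ↔ g * y = y * g := by
  have key : ∀ {a b : G}, pj a = pj b → ∀ c : G, b * c = c * b → a * c = c * a := by
    intro a b h c e
    obtain ⟨z, hz, rfl⟩ := pj_eq h
    rw [mul_assoc, ← mem_center_iff.1 hz c, ← mul_assoc, e, mul_assoc]
  refine ⟨fun h => ?_, fun h => mem_iInf.2 fun y' =>
    ⟨g, mem_centralizer_singleton_iff.2 (key y'.2 g h.symm).symm, rfl⟩⟩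
  obtain ⟨g', h1, h2⟩ := mem_iInf.1 h ⟨y, rfl⟩
  exact key h2.symm y (mem_centralizer_singleton_iff.1 h1)

theorem conj_of_cent {a y : G} (h : pj a ∈ 𝐂[pj y]) : ∃ z ∈ center G, a * y * a⁻¹ = y * z :=
  pj_eq (by rw [map_mul, map_mul, mem_centralizer_singleton_iff.1 h, map_inv,
    mul_inv_cancel_right])

theorem odd_unique (hZ : IsPGroup 2 (center G)) {a b : G} (ha : Odd (orderOf a))
    (hb : Odd (orderOf b)) (h : pj a = pj b) : a = b := by
  obtain ⟨z, hz, e⟩ := pj_eq h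
  obtain ⟨k, hk⟩ := hZ ⟨z, hz⟩
  have h1 : z ^ 2 ^ k = 1 := congrArg Subtype.val hk
  have h2 : Commute b z := mem_center_iff.1 hz b
  have h3 : z ^ (orderOf a * orderOf b) = 1 := by
    have := congrArg (· ^ (orderOf a * orderOf b)) e
    simp only [h2.mul_pow] at this
    rwa [pow_mul, pow_orderOf_eq_one, one_pow, mul_comm (orderOf a), pow_mul b,
      pow_orderOf_eq_one, one_pow, one_mul, eq_comm, mul_comm (orderOf b)] at this
  have h4 : orderOf z ∣ 1 := by
    rw [← (Nat.Coprime.pow_left k (Nat.coprime_two_left.2 (ha.mul hb))).gcd_eq_one]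
    exact Nat.dvd_gcd (orderOf_dvd_of_pow_eq_one h1) (orderOf_dvd_of_pow_eq_one h3)
  rw [e, orderOf_eq_one_iff.1 (Nat.dvd_one.1 h4), mul_one]

theorem exists_odd (hZ : IsPGroup 2 (center G)) {x : G ⧸ center G} (hx : Odd (orderOf x)) :
    ∃ a : G, Odd (orderOf a) ∧ pj a = x := by
  obtain ⟨b, rfl⟩ := pj_surj x
  obtain ⟨k, hk⟩ := hZ ⟨b ^ orderOf (pj b), pj_one.1 (by rw [map_pow, pow_orderOf_eq_one])⟩
  have h1 : (b ^ orderOf (pj b)) ^ 2 ^ k = 1 := congrArg Subtype.val hk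
  obtain ⟨m, hm⟩ := exists_pow_eq_self_of_coprime (x := pj b) (n := 2 ^ k)
    (Nat.Coprime.pow_left k (Nat.coprime_two_left.2 hx))
  refine ⟨(b ^ 2 ^ k) ^ m, hx.of_dvd_nat (orderOf_dvd_of_pow_eq_one ?_), by
    rw [map_pow, map_pow, hm]⟩
  rw [← pow_mul, mul_comm m, pow_mul, ← pow_mul b, mul_comm (2 ^ k), pow_mul, h1, one_pow]

theorem odd_conj {a : G} (g : G) (ha : Odd (orderOf a)) : Odd (orderOf (g * a * g⁻¹)) := by
  rwa [show g * a * g⁻¹ = MulAut.conj g a from rfl, MulEquiv.orderOf_eq]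

theorem ro_lift (hZ : IsPGroup 2 (center G)) {x g : G ⧸ center G} (hx : Odd (orderOf x))
    (h1 : x ≠ 1) (hg : g * x * g⁻¹ = x⁻¹) : ∃ a : G, RO a ∧ pj a = x := by
  obtain ⟨a, ha, rfl⟩ := exists_odd hZ hx
  obtain ⟨b, rfl⟩ := pj_surj g
  refine ⟨a, ⟨fun e => h1 (by rw [e, map_one]), ha, isConj_iff.2 ⟨b, ?_⟩⟩, rfl⟩
  exact odd_unique hZ (odd_conj b ha) (by rwa [orderOf_inv])
    (by simpa only [map_mul, map_inv] using hg)

theorem VR.isConj {y : G} (h : VR y) : IsConj y y⁻¹ := by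
  obtain ⟨t, -, e⟩ := h
  exact isConj_iff.2 ⟨t, e⟩

theorem ro_not_mem (hZ : IsPGroup 2 (center G)) {a : G} (h : RO a) : a ∉ center G := fun e =>
  h.1 (odd_unique hZ h.2.1 (by simp) (by rw [pj_one.2 e, map_one]))

variable [Finite G]

theorem card_comap (P : Subgroup (G ⧸ center G)) :
    𝐨(P.comap (pj (G := G))) = 𝐨(P) * 𝐨(center G) := by
  have h1 := relIndex_comap (⊥ : Subgroup (G ⧸ center G)) pj (P.comap pj)
  rw [map_comap_eq_self_of_surjective (QuotientGroup.mk'_surjective _), relIndex_bot_left,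
    MonoidHom.comap_bot, QuotientGroup.ker_mk'] at h1
  rw [← h1, mul_comm, H1.card_mul_relIndex]
  exact fun z hz => mem_comap.2 (by rw [pj_one.2 hz]; exact one_mem _)

theorem hy {s : ℕ} (h : Hp G s) (f : F1 G) : Hy (Re G) Cl (s / 𝐨(center G)) := by
  have hZ := H6.Half.isPGroup_center h.od
  have hZ' : IsPGroup 2 (pj (G := G)).ker := by rwa [QuotientGroup.ker_mk']
  refine ⟨fun i g hi => ?_, fun e g he => ?_, fun l x g hl h2 hx hg hc => ?_, fun e l hl => ?_,
    fun e => ?_, fun e u v hu hv => ?_, fun e l he hl => ?_, fun i t hi ht => ?_,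
    fun e P he h1 hP h2 => ?_, fun x g P hx h1 hg hP => ?_, H6.Half.core_quot h.od⟩
  · obtain ⟨a, rfl⟩ := pj_surj i
    obtain ⟨b, rfl⟩ := pj_surj g
    have ha : a * a ∈ center G := pj_one.1 (by rwa [map_mul])
    refine ⟨a⁻¹ * (b * a * b⁻¹), ⟨a, ha, ?_⟩, ?_⟩
    · calc a * (a⁻¹ * (b * a * b⁻¹)) * a⁻¹ = b * a⁻¹ * ((a * a) * b⁻¹) * a⁻¹ := by group
        _ = _ := by rw [← mem_center_iff.1 ha b⁻¹]; group
    · rw [map_mul, map_inv, inv_eq_of_mul_eq_one_right hi, map_mul, map_mul, map_inv]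
  · obtain ⟨y, ⟨t, h1, h2⟩, rfl⟩ := he
    obtain ⟨b, rfl⟩ := pj_surj g
    refine ⟨b * y * b⁻¹, ⟨b * t * b⁻¹, ?_, ?_⟩, by simp only [map_mul, map_inv]⟩
    · rw [show b * t * b⁻¹ * (b * t * b⁻¹) = b * (t * t) * b⁻¹ by group,
        mem_center_iff.1 h1 b, mul_inv_cancel_right]
      exact h1
    · calc _ = b * (t * y * t⁻¹) * b⁻¹ := by group
        _ = _ := by rw [h2]; group
  · refine or_iff_not_imp_right.2 fun h1 => ?_
    obtain ⟨y, hy, rfl⟩ := hl
    obtain ⟨a, ha, rfl⟩ := ro_lift hZ hx h1 hg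
    obtain ⟨k, hk⟩ := (h2.comap_of_ker_isPGroup pj hZ') ⟨y, mem_comap.2 (mem_zpowers _)⟩
    refine pj_one.2 (f y a ⟨k, congrArg Subtype.val hk⟩ hy ha ?_)
    have := odd_unique hZ (odd_conj y ha.2.1) ha.2.1
      (by rw [map_mul, map_mul, hc, map_inv, mul_inv_cancel_right])
    exact (mul_inv_eq_iff_eq_mul.1 this).symm
  · obtain ⟨a, rfl⟩ := pj_surj e
    obtain ⟨b, rfl⟩ := pj_surj l
    exact mem_Cl.2 (mem_Cl.1 hl).symm
  · obtain ⟨a, rfl⟩ := pj_surj e
    exact mem_Cl.2 rfl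
  · obtain ⟨y, rfl⟩ := pj_surj e
    obtain ⟨a, rfl⟩ := pj_surj u
    obtain ⟨b, rfl⟩ := pj_surj v
    obtain ⟨z, hz, e1⟩ := conj_of_cent hu
    obtain ⟨w, hw, e2⟩ := conj_of_cent hv
    rw [← map_commutatorElement, mem_Cl]
    have e3 : a * b * y * (a * b)⁻¹ = b * a * y * (b * a)⁻¹ := by
      calc _ = a * (b * y * b⁻¹) * a⁻¹ := by group
        _ = a * y * (w * a⁻¹) := by rw [e2]; group
        _ = a * y * a⁻¹ * w := by rw [← mem_center_iff.1 hw a⁻¹]; group
        _ = y * (z * w) := by rw [e1]; group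
        _ = b * y * b⁻¹ * z := by rw [mem_center_iff.1 hw z, e2]; group
        _ = b * y * (z * b⁻¹) := by rw [← mem_center_iff.1 hz b⁻¹]; group
        _ = b * (a * y * a⁻¹) * b⁻¹ := by rw [e1]; group
        _ = _ := by group
    have e4 : ∃ c ∈ center G, b * a * y * (b * a)⁻¹ = y * c :=
      conj_of_cent (by rw [map_mul]; exact mul_mem hv hu)
    obtain ⟨c, hc, e4⟩ := e4
    have e5 : y = (b * a)⁻¹ * y * (b * a) * c := by
      calc y = (b * a)⁻¹ * (b * a * y * (b * a)⁻¹) * (b * a) := by group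
        _ = (b * a)⁻¹ * y * (c * (b * a)) := by rw [e4]; group
        _ = _ := by rw [← mem_center_iff.1 hc (b * a)]; group
    have e6 : y = (a * b)⁻¹ * y * (a * b) * c := by
      calc y = (a * b)⁻¹ * (a * b * y * (a * b)⁻¹) * (a * b) := by group
        _ = (a * b)⁻¹ * y * (c * (a * b)) := by rw [e3, e4]; group
        _ = _ := by rw [← mem_center_iff.1 hc (a * b)]; group
    have e7 := mul_right_cancel (e5.symm.trans e6)
    calc ⁅a, b⁆ * y = a * b * ((b * a)⁻¹ * y * (b * a)) * (b * a)⁻¹ := by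
          rw [commutatorElement_def]; group
      _ = _ := by rw [e7, commutatorElement_def]; group
  · obtain ⟨y, rfl⟩ := pj_surj e
    obtain ⟨a, rfl⟩ := pj_surj l
    obtain ⟨z, hz, e1⟩ := conj_of_cent hl
    have hy : y * y ∈ center G := pj_one.1 (by rwa [map_mul])
    have e2 : z * z = 1 := by
      refine mul_left_cancel (a := y * y) ?_
      calc y * y * (z * z) = y * (y * z) * z := by group
        _ = y * (z * y) * z := by rw [mem_center_iff.1 hz y]
        _ = (y * z) * (y * z) := by group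
        _ = a * (y * y) * a⁻¹ := by rw [← e1]; group
        _ = _ := by rw [mem_center_iff.1 hy a]; group
    rw [← map_mul, mem_Cl, ← mul_inv_eq_iff_eq_mul]
    calc a * a * y * (a * a)⁻¹ = a * (a * y * a⁻¹) * a⁻¹ := by group
      _ = a * y * (z * a⁻¹) := by rw [e1]; group
      _ = a * y * a⁻¹ * z := by rw [← mem_center_iff.1 hz a⁻¹]; group
      _ = y := by rw [e1, mul_assoc, e2, mul_one]
  · obtain ⟨a, rfl⟩ := pj_surj i
    obtain ⟨b, rfl⟩ := pj_surj t
    rw [← map_mul, mem_Cl] at ht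
    rw [← map_inv, ← map_mul, ← map_mul, ← map_mul, ← map_mul, mem_Cl]
    have e1 : Commute (a * b) (b * b) :=
      Commute.mul_left ht.symm ((Commute.refl b).mul_right (Commute.refl b))
    have e2 : Commute (a * b) ((a * b) * (a * b) * (b * b)⁻¹) :=
      ((Commute.refl _).mul_right (Commute.refl _)).mul_right e1.inv_right
    rw [show a * (b * a * b⁻¹) = (a * b) * (a * b) * (b * b)⁻¹ by group]
    exact e2
  · obtain ⟨y, hy, rfl⟩ := he
    obtain ⟨S, hS, rfl⟩ := h.syl y (VR.isConj hy) fun e => h1 (pj_one.2 e)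
    rw [Nat.le_div_iff_mul_le Nat.card_pos, ← card_comap]
    exact Nat.le_of_dvd Nat.card_pos (hS.card_dvd Nat.prime_two (h2.comap_of_ker_isPGroup pj hZ')
      fun g hg => mem_centralizer_singleton_iff.2 (mem_Cl.1 (hP hg)))
  · obtain ⟨a, ha, rfl⟩ := ro_lift hZ hx h1 hg
    obtain ⟨S, hS, rfl⟩ := h.syl a ha.2.2 (ro_not_mem hZ ha)
    refine Nat.div_le_of_le_mul ?_
    have e1 : S.map pj ≤ 𝐂[pj a] := by
      rintro _ ⟨g, hg, rfl⟩
      rw [mem_centralizer_singleton_iff, ← map_mul, ← map_mul,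
        mem_centralizer_singleton_iff.1 (hS.le hg)]
    have e2 := Nat.le_of_dvd Nat.card_pos (hP.card_dvd Nat.prime_two (hS.pgrp.map pj) e1)
    calc 𝐨(S) ≤ 𝐨((S.map pj).comap pj) := card_le_of_le (le_comap_map _ _)
      _ = _ := card_comap _
      _ ≤ _ := by rw [mul_comm]; exact Nat.mul_le_mul_left _ e2

theorem mem_pCore (hZ : IsPGroup 2 (center G)) {y : G} (hy : pj y ∈ pCore 2 (G ⧸ center G)) :
    y ∈ pCore 2 G :=
  L.le_pCore (N := (pCore 2 (G ⧸ center G)).comap pj)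
    (Subgroup.Normal.comap inferInstance _) ((L.isPGroup_pCore 2).comap_of_ker_isPGroup pj
      (by rwa [QuotientGroup.ker_mk'])) hy

/-- The core, given that real elements of odd order centralize `O₂(G)`. -/
theorem core_of {s : ℕ} (h : Hp G s) (f : F1 G)
    (hC : ∀ x : G, RO x → pCore 2 G ≤ 𝐂[x]) {t : G} (h1 : t ∉ pCore 2 G)
    (h2 : t * t ∈ center G) : False := by
  have hZ := H6.Half.isPGroup_center h.od
  have sq : pj t * pj t = 1 := by rw [← map_mul, pj_one.2 h2]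
  refine (hy h f).false_of' (i := pj t) ⟨fun e => h1 (mem_pCore hZ (e ▸ one_mem _)), sq⟩
    (fun e => h1 (mem_pCore hZ ?_)) ?_
  · have e1 : zpowers (pj t) ≤ center _ := zpowers_le.2 e
    refine L.le_pCore ⟨fun n hn g => ?_⟩ (fun n => ⟨1, Subtype.ext ?_⟩) (mem_zpowers _)
    · rwa [mem_center_iff.1 (e1 hn) g, mul_inv_cancel_right]
    · obtain ⟨_, k, rfl⟩ := n
      show (pj t ^ k) ^ 2 ^ 1 = 1
      rw [pow_one, ← zpow_natCast, ← zpow_mul, mul_comm, zpow_mul, zpow_natCast, pow_two, sq,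
        one_zpow]
  · rintro _ he ⟨y, hy, rfl⟩ -
    obtain ⟨x, hx⟩ := h.ex
    have e1 := mem_pCore hZ he
    obtain ⟨k, hk⟩ := L.isPGroup_pCore 2 ⟨y, e1⟩
    exact pj_one.2 (f y x ⟨k, congrArg Subtype.val hk⟩ hy hx
      (mem_centralizer_singleton_iff.1 (hC x hx e1)).symm)

end CW

theorem coreStmt : CoreStmt.{u} := fun _ _ _ _ h f ⟨_, h1, h2⟩ =>
  CW.core_of h f (fun _ hx => h.core_cent hx) h1 h2

end Cfsg.Agent.P30
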