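/-
P30, chapter Dih, part 1: counting lemmas and the elements of `S` inverted by `τ`.
-/
import Cfsg.Agent.P30.Defs
import Cfsg.Agent.H9.ClassSize
import Cfsg.Agent.H6.HalfClass2

set_option autoImplicit false
set_option linter.unusedSectionVars false

namespace Cfsg.Agent.P30.D7

open Subgroup Cfsg Cfsg.Agent Cfsg.Agent.FT
open Cfsg.Agent.P21 (Two)

universe u

variable {G : Type u} [Group G] [Finite G] {s : ℕ}

theorem exists_ext {K : Subgroup G} {h : G} (hn : h ∈ 𝐍(K)) (hs : h * h ∈ K) (h0 : h ∉ K) :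
    ∃ E : Subgroup G, K ≤ E ∧ h ∈ E ∧ (∀ g ∈ E, g ∈ K ∨ g * h ∈ K) ∧ 𝐨(E) = 2 * 𝐨(K) := by
  have c1 : ∀ k ∈ K, h⁻¹ * k * h ∈ K := fun k hk => by
    simpa using (mem_normalizer_iff.1 (inv_mem hn) k).1 hk
  have c2 : ∀ k ∈ K, h * k * h⁻¹ ∈ K := fun k hk => (mem_normalizer_iff.1 hn k).1 hk
  let E : Subgroup G :=
    { carrier := {g | g ∈ K ∨ g * h ∈ K}
      one_mem' := Or.inl K.one_mem
      mul_mem' := by
        rintro a b (ha | ha) (hb | hb)
        · exact Or.inl (mul_mem ha hb)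
        · exact Or.inr (by rw [mul_assoc]; exact mul_mem ha hb)
        · exact Or.inr (by convert mul_mem ha (c1 b hb) using 1; group)
        · exact Or.inl (by convert mul_mem (mul_mem ha (c1 _ hb)) (inv_mem hs) using 1; group)
      inv_mem' := by
        rintro a (ha | ha)
        · exact Or.inl (inv_mem ha)
        · exact Or.inr (by convert mul_mem (c2 _ (inv_mem ha)) hs using 1; group) }
  have hK : K ≤ E := fun g hg => Or.inl hg
  refine ⟨E, hK, Or.inr hs, fun g hg => hg, ?_⟩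
  have : K.relIndex E = 2 := relIndex_eq_two_iff_exists_notMem_and.2
    ⟨h, Or.inr hs, h0, fun b hb => (show b ∈ K ∨ b * h ∈ K from hb).symm⟩
  rw [← H1.card_mul_relIndex hK, this, mul_comm]

theorem dvd1 (h : Hp G s) {y : G} (r : IsConj y y⁻¹) (n : y ∉ center G) : s ∣ 𝐨(𝐂[y]) := by
  obtain ⟨S, hS, e⟩ := h.syl y r n
  exact e ▸ Subgroup.card_dvd_of_le hS.le

theorem ndvd (h : Hp G s) {y : G} (r : IsConj y y⁻¹) (n : y ∉ center G) : ¬ 2 * s ∣ 𝐨(𝐂[y]) := by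
  obtain ⟨S, hS, e⟩ := h.syl y r n
  intro k
  rw [← H1.card_mul_relIndex hS.le, e, mul_comm] at k
  exact hS.ndvd (Nat.dvd_of_mul_dvd_mul_left (e ▸ Nat.card_pos) k)

theorem real_of {y g : G} (h : g * y * g⁻¹ = y⁻¹) : IsConj y y⁻¹ := isConj_iff.2 ⟨g, h⟩

theorem cz {z : G} (hz : z ∈ center G) (g : G) : g * z = z * g := mem_center_iff.1 hz g

theorem cent_z {z : G} (hz : z ∈ center G) (y : G) : 𝐂[z * y] = 𝐂[y] := by
  ext g
  rw [mem_cent1, mem_cent1, ← mul_assoc, cz hz g, mul_assoc, mul_assoc, mul_right_inj]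

theorem nrm_of {y g : G} (h : 𝐂[g * y * g⁻¹] = 𝐂[y]) : g ∈ 𝐍(𝐂[y]) :=
  conj_eq_self_iff.1 (by rw [← cent1_conj, h])

theorem odd_ne {x : G} (ne : x ≠ 1) (o : Odd (orderOf x)) : x ≠ x⁻¹ := fun e => by
  have h2 : x ^ 2 = 1 := by rw [pow_two]; nth_rewrite 1 [e]; exact inv_mul_cancel x
  have := orderOf_dvd_of_pow_eq_one h2
  rcases (Nat.dvd_prime Nat.prime_two).1 this with k | k
  · exact ne (orderOf_eq_one_iff.1 k)
  · rw [k] at o; exact absurd o (by decide)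

/-- If `x` and `v` are inverted simultaneously no centralizer of `v` inverts `x`. -/
theorem kill (h : Hp G s) {x v τ g : G} (ne : x ≠ 1) (o : Odd (orderOf x)) (tv : Two v)
    (c : x * v = v * x) (i1 : τ * x * τ⁻¹ = x⁻¹) (i2 : τ * v * τ⁻¹ = v⁻¹)
    (j1 : g * x * g⁻¹ = x⁻¹) (j2 : v * g = g * v) : v ∈ center G := by
  by_contra n
  obtain ⟨k, hk⟩ := tv
  have cp : (orderOf x).Coprime (orderOf v) :=
    Nat.Coprime.coprime_dvd_right (orderOf_dvd_of_pow_eq_one hk)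
      (Nat.Coprime.pow_right k (Nat.coprime_two_right.2 o))
  have e : 𝐂[x * v] = 𝐂[x] ⊓ 𝐂[v] := H9.centralizer_mul_of_coprime c cp
  have gx : g ∉ 𝐂[x] := fun k => odd_ne ne o ((mem_cent1_iff_conj.1 k).symm.trans j1)
  have r : IsConj (x * v) (x * v)⁻¹ := real_of (g := τ) (by
    rw [c, mul_inv_rev, ← i1, ← i2, ← c]
    have : τ * x * τ⁻¹ * (τ * v * τ⁻¹) = τ * (x * v) * τ⁻¹ := by group
    rw [this])
  have nc : x * v ∉ center G := fun k => gx (by
    have : g ∈ 𝐂[x * v] := mem_cent1.2 (cz k g).symm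
    rw [e] at this; exact this.1)
  have gv : g ∈ 𝐂[v] := mem_cent1.2 j2
  obtain ⟨E, h1, h2, h3, h4⟩ := exists_ext (K := 𝐂[x * v]) (h := g)
    (by rw [e]; exact H1.le_normalizer_inf (A := zpowers g) (zpowers_le.2 (nrm_of (by
      rw [j1, cent1_inv]))) (zpowers_le.2 (le_normalizer gv)) (mem_zpowers g))
    (by
      rw [e]
      refine ⟨mem_cent1_iff_conj.2 ?_, mul_mem gv gv⟩
      calc g * g * x * (g * g)⁻¹ = g * (g * x * g⁻¹) * g⁻¹ := by group
        _ = g * x⁻¹ * g⁻¹ := by rw [j1]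
        _ = (g * x * g⁻¹)⁻¹ := by group
        _ = x := by rw [j1, inv_inv])
    (by rw [e]; exact fun k => gx k.1)
  have hE : E ≤ 𝐂[v] := fun a ha => by
    rcases h3 a ha with k | k <;> rw [e] at k
    · exact k.2
    · exact (mul_mem_cancel_right gv).1 k.2
  exact ndvd h (real_of i2) n ((Nat.mul_dvd_mul_left 2 (dvd1 h r nc)).trans (h4 ▸ Subgroup.card_dvd_of_le hE))

theorem orb4 (h : Hp G s) (h4 : ¬ 4 * s ∣ Nat.card G) {y a b : G} (r : IsConj y y⁻¹)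
    (n : y ∉ center G) (na : a ∈ 𝐍(𝐂[y])) (nb : b ∈ 𝐍(𝐂[y])) (aa : a * a ∈ 𝐂[y])
    (bb : b * b ∈ 𝐂[y]) (ab : b * a⁻¹ * b⁻¹ * a ∈ 𝐂[y]) (a0 : a ∉ 𝐂[y]) (b0 : b ∉ 𝐂[y])
    (c0 : b * a ∉ 𝐂[y]) : False := by
  obtain ⟨E, h1, h2, h3, e1⟩ := exists_ext na aa a0
  obtain ⟨F, -, -, -, e2⟩ := exists_ext (K := E) (h := b) (mem_norm_of_conj_le (by
      rintro _ ⟨g, hg, rfl⟩
      change b * g * b⁻¹ ∈ E
      rcases h3 g hg with k | k
      · exact h1 ((mem_normalizer_iff.1 nb g).1 k)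
      · have := mul_mem (h1 (mul_mem ((mem_normalizer_iff.1 nb _).1 k) ab)) (inv_mem h2)
        convert this using 1; group)) (h1 bb) (fun k => (h3 b k).elim b0 c0)
  refine h4 (Dvd.dvd.trans ?_ (card_subgroup_dvd_card F))
  rw [e2, e1, ← mul_assoc]
  exact Nat.mul_dvd_mul_left 4 (dvd1 h r n)

/-- The commutator map of a good element has at most two values. -/
theorem two (h : Hp G s) (h4 : ¬ 4 * s ∣ Nat.card G) {y a b z w : G} (r : IsConj y y⁻¹)
    (n : y ∉ center G) (yy : y * y ∈ center G) (hz : z ∈ center G) (hw : w ∈ center G)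
    (ea : a * y * a⁻¹ = z * y) (eb : b * y * b⁻¹ = w * y) (z1 : z ≠ 1) (w1 : w ≠ 1) : z = w := by
  by_contra ne
  have sq : ∀ {a z : G}, z ∈ center G → a * y * a⁻¹ = z * y → z * z = 1 := fun {a z} hz ea => by
    have e1 : a * (y * y) * a⁻¹ = y * y := by rw [cz yy a]; group
    have e2 : a * (y * y) * a⁻¹ = z * z * (y * y) := by
      calc _ = (a * y * a⁻¹) * (a * y * a⁻¹) := by group
        _ = z * (y * z) * y := by rw [ea]; group
        _ = _ := by rw [cz hz y]; group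
    exact mul_eq_right.1 (e2.symm.trans e1)
  have act : ∀ {a z : G}, z ∈ center G → a * y * a⁻¹ = z * y → ∀ {u : G}, u ∈ center G →
      a * (u * y) * a⁻¹ = z * u * y := fun {a z} hz ea {u} hu => by
    calc _ = (a * u) * a⁻¹ * (a * y * a⁻¹) := by group
      _ = u * z * y := by rw [cz hu a, ea]; group
      _ = _ := by rw [cz hz u]
  have inv : ∀ {a z : G}, z ∈ center G → a * y * a⁻¹ = z * y → a⁻¹ * y * a⁻¹⁻¹ = z * y :=
    fun {a z} hz ea => by
      have := act hz ea hz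
      rw [sq hz ea, one_mul] at this
      calc a⁻¹ * y * a⁻¹⁻¹ = a⁻¹ * (a * (z * y) * a⁻¹) * a⁻¹⁻¹ := by rw [this]
        _ = z * y := by group
  have ne1 : ∀ {a z : G}, a * y * a⁻¹ = z * y → z ≠ 1 → a ∉ 𝐂[y] := fun {a z} ea z1 k =>
    z1 (mul_eq_right.1 (ea.symm.trans (mem_cent1_iff_conj.1 k)))
  have mul : ∀ {a b z w : G}, z ∈ center G → w ∈ center G → a * y * a⁻¹ = z * y →
      b * y * b⁻¹ = w * y → b * a * y * (b * a)⁻¹ = (w * z) * y := fun {a b z w} hz hw ea eb => by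
    rw [← act hw eb hz, ← ea]; group
  refine orb4 h h4 r n (nrm_of (by rw [ea, cent_z hz])) (nrm_of (by rw [eb, cent_z hw]))
    (mem_cent1_iff_conj.2 (by rw [mul hz hz ea ea, sq hz ea, one_mul]))
    (mem_cent1_iff_conj.2 (by rw [mul hw hw eb eb, sq hw eb, one_mul]))
    (mem_cent1_iff_conj.2 ?_) (ne1 ea z1) (ne1 eb w1) (ne1 (mul hz hw ea eb) fun k => ne ?_)
  · rw [mul hz (mul_mem (mul_mem hw hz) hw) ea (mul hw (mul_mem hw hz) (inv hw eb)
      (mul hz hw (inv hz ea) eb)), mul_assoc w z w, ← cz hz w, ← mul_assoc, sq hw eb, one_mul,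
      sq hz ea, one_mul]
  · calc z = w * (w * z) := by rw [← mul_assoc, sq hw eb, one_mul]
      _ = w := by rw [k, mul_one]

end Cfsg.Agent.P30.D7
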