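/-
P30, chapter Dih, part 2: the elements of `S` inverted by `τ` are central in `S`.
-/
import Cfsg.Agent.P30.Dih1

set_option autoImplicit false
set_option linter.unusedSectionVars false

namespace Cfsg.Agent.P30.D7

open Subgroup Cfsg Cfsg.Agent Cfsg.Agent.FT
open Cfsg.Agent.P21 (Two)

universe u

variable {G : Type u} [Group G] [Finite G] {s : ℕ} {x τ : G} {S : Subgroup G}

theorem two_mem {P : Subgroup G} (hP : IsPGroup 2 P) {a : G} (ha : a ∈ P) : Two a :=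
  (hP ⟨a, ha⟩).imp fun _ e => congrArg Subtype.val e

theorem nS (c : Cf s x S τ) : τ ∉ S := fun k =>
  odd_ne c.ne c.odd ((mem_cent1_iff_conj.1 (c.syl.le k)).symm.trans c.inv)

theorem cj (c : Cf s x S τ) {w : G} (hw : w ∈ S) : τ * w * τ⁻¹ ∈ S :=
  (mem_normalizer_iff.1 c.nrm w).1 hw

theorem shift (c : Cf s x S τ) {w : G} (hw : w ∈ S) : Cf s x S (w * τ) where
  ne := c.ne
  odd := c.odd
  syl := c.syl
  card := c.card
  inv := by
    have : w ∈ 𝐂[x⁻¹] := by rw [cent1_inv]; exact c.syl.le hw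
    rw [← mem_cent1_iff_conj.1 this, ← c.inv]; group
  nrm := mul_mem (le_normalizer hw) c.nrm
  sq := by convert mul_mem (mul_mem hw (cj c hw)) c.sq using 1; group

theorem zle (h : Hp G s) (c : Cf s x S τ) : center G ≤ S :=
  c.syl.le_of_le_norm Nat.prime_two (H6.Half.isPGroup_center h.od)
    (fun z hz => mem_cent1.2 (cz hz x)) (by rw [normalizer_eq_top]; exact le_top)

theorem exT (c : Cf s x S τ) : ∃ T : Subgroup G, S ≤ T ∧ τ ∈ T ∧ (∀ g ∈ T, g ∈ S ∨ g * τ ∈ S) ∧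
    𝐨(T) = 2 * s ∧ IsPGroup 2 T := by
  obtain ⟨T, h1, h2, h3, h4⟩ := exists_ext c.nrm c.sq (nS c)
  obtain ⟨n, hn⟩ := exists_card_eq_pow Nat.prime_two c.syl.pgrp
  exact ⟨T, h1, h2, h3, by rw [h4, c.card], isPGroup_of_card_eq (n := n + 1)
    (by rw [h4, hn, pow_succ'])⟩

theorem sylT (h4 : ¬ 4 * s ∣ Nat.card G) {T : Subgroup G} (e : 𝐨(T) = 2 * s)
    (hT : IsPGroup 2 T) : IsSyl 2 T ⊤ := ⟨le_top, hT, fun k => h4 (by
  rw [relIndex_top_right] at k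
  rw [← T.card_mul_index, e, show 4 * s = 2 * s * 2 by ring]
  exact Nat.mul_dvd_mul_left _ k)⟩

theorem factE (h : Hp G s) (c : Cf s x S τ) {j : G} (hj : j ∈ S) (jj : j * j = 1)
    (k : τ * j * τ⁻¹ = j) : j ∈ center G :=
  kill h c.ne c.odd ⟨1, by rw [pow_one, pow_two, jj]⟩ (mem_cent1.1 (c.syl.le hj)) c.inv
    (k.trans (eq_inv_of_mul_eq_one_left jj)) c.inv (mul_inv_eq_iff_eq_mul.1 k).symm

theorem six_step (h : Hp G s) (h4 : ¬ 4 * s ∣ Nat.card G) (c : Cf s x S τ) {v : G} (hv : v ∈ S)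
    (iv : τ * v * τ⁻¹ = v⁻¹) (sq : S ≤ 𝐂[v * v]) : S ≤ 𝐂[v] := by
  by_contra n
  have nz : v ∉ center G := fun k => n fun g _ => mem_cent1.2 (cz k g).symm
  have xv : x * v = v * x := mem_cent1.1 (c.syl.le hv)
  have tv := two_mem c.syl.pgrp hv
  have nC : τ ∈ 𝐍(𝐂[v]) := nrm_of (by rw [iv, cent1_inv])
  have iv' : τ⁻¹ * v * τ = v⁻¹ := by
    rw [← inv_inj, inv_inv]
    calc _ = τ⁻¹ * v⁻¹ * τ := by group
      _ = v := by rw [← iv]; group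
  have tt : τ * τ ∈ 𝐂[v] := mem_cent1_iff_conj.2 (by
    calc _ = τ * (τ * v * τ⁻¹) * τ⁻¹ := by group
      _ = τ * v⁻¹ * τ⁻¹ := by rw [iv]
      _ = (τ * v * τ⁻¹)⁻¹ := by group
      _ = v := by rw [iv, inv_inv])
  obtain ⟨T, t1, t2, t3, t4, t5⟩ := exT c
  obtain ⟨R, r1, r2, r3, -⟩ := exists_ext (K := S ⊓ 𝐂[v]) (h := τ)
    (H1.le_normalizer_inf (A := zpowers τ) (zpowers_le.2 c.nrm) (zpowers_le.2 nC) (mem_zpowers τ))
    ⟨c.sq, tt⟩ (fun k => nS c k.1)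
  have rs : ∀ g ∈ R, g ∈ S → g ∈ 𝐂[v] := fun g hg gs => (r3 g hg).elim (fun k => k.2)
    fun k => absurd ((mul_mem_cancel_left gs).1 k.1) (nS c)
  have RT : R ≤ T := fun g hg => (r3 g hg).elim (fun k => t1 k.1)
    fun k => (mul_mem_cancel_right t2).1 (t1 k.1)
  obtain ⟨g0, g1, g2, g3⟩ := H1.exists_mem_normalizer_of_lt
    (isNilpotent_of_isPGroup Nat.prime_two t5) (lt_of_le_of_ne RT fun e =>
      n fun g hg => rs g (e ▸ t1 hg) hg)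
  obtain ⟨g, gs, gn, gr⟩ : ∃ g ∈ S, g ∈ 𝐍(R) ∧ g ∉ R := (t3 g0 g1).elim (fun k => ⟨g0, k, g2, g3⟩)
    fun k => ⟨_, k, mul_mem g2 (le_normalizer r2), fun e => g3 ((mul_mem_cancel_right r2).1 e)⟩
  have cr : ∀ a ∈ R, g⁻¹ * a * g ∈ R := fun a ha => by
    simpa using (mem_normalizer_iff.1 (inv_mem gn) a).1 ha
  have c1 : v * (g⁻¹ * v * g) = g⁻¹ * v * g * v := mem_cent1.1
    (rs _ (cr v (r1 ⟨hv, self_mem_cent1 v⟩)) (mul_mem (mul_mem (inv_mem gs) hv) gs))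
  have c2 : v * (g * v * g⁻¹) = g * v * g⁻¹ * v := by
    calc _ = g * (g⁻¹ * v * g * v) * g⁻¹ := by group
      _ = _ := by rw [← c1]; group
  have c3 : τ * (g * v * g⁻¹) * τ⁻¹ = (g * v * g⁻¹)⁻¹ := by
    rcases r3 _ (cr τ r2) with k | k
    · exact absurd (by convert mul_mem (mul_mem gs k.1) (inv_mem gs) using 1; group) (nS c)
    · have k2 : g⁻¹ * τ * g * τ ∈ 𝐂[v⁻¹] := by rw [cent1_inv]; exact k.2
      calc _ = g * ((g⁻¹ * τ * g * τ) * (τ⁻¹ * v * τ) * (g⁻¹ * τ * g * τ)⁻¹) * g⁻¹ := by group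
        _ = _ := by rw [iv', mem_cent1_iff_conj.1 k2]; group
  obtain ⟨v', e'⟩ : ∃ v', v' = g * v * g⁻¹ := ⟨_, rfl⟩
  rw [← e'] at c2 c3
  have c4 : v' * v' = v * v := by
    rw [e', ← mem_cent1_iff_conj.1 (sq gs)]; group
  have cm : Commute v v' := c2
  have uu : v' * v⁻¹ * (v' * v⁻¹) = 1 := by
    calc _ = v' * (v⁻¹ * v') * v⁻¹ := by group
      _ = (v' * v') * (v * v)⁻¹ := by rw [cm.inv_left.eq]; group
      _ = 1 := by rw [c4]; group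
  have uz : v' * v⁻¹ ∈ center G := factE h c
    (mul_mem (e' ▸ mul_mem (mul_mem gs hv) (inv_mem gs)) (inv_mem hv)) uu (by
      calc _ = (τ * v' * τ⁻¹) * (τ * v * τ⁻¹)⁻¹ := by group
        _ = (v' * v⁻¹)⁻¹ := by rw [c3, iv, inv_inv, mul_inv_rev, inv_inv, cm.inv_right.eq]
        _ = _ := (eq_inv_of_mul_eq_one_left uu).symm)
  obtain ⟨u, eu⟩ : ∃ u, u = v' * v⁻¹ := ⟨_, rfl⟩
  rw [← eu] at uu uz
  have eg : g * v * g⁻¹ = u * v := by rw [eu, e']; group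
  have eg' : g⁻¹ * v * g = u * v := by
    calc _ = g⁻¹ * (u * u * v) * g := by rw [uu, one_mul]
      _ = (g⁻¹ * u) * (u * v) * g := by group
      _ = _ := by rw [cz uz, ← eg]; group; rw [← eg]; group
  have gx : g * x * g⁻¹ = x := mem_cent1_iff_conj.1 (c.syl.le gs)
  refine orb4 h h4 (real_of iv) nz nC (nrm_of (by rw [eg, cent_z uz])) tt
    (mem_cent1_iff_conj.2 ?_) (mem_cent1_iff_conj.2 ?_)
    (fun k => nz (kill h c.ne c.odd tv xv c.inv iv c.inv (mem_cent1.1 k)))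
    (fun k => gr (r1 ⟨gs, k⟩))
    (fun k => nz (kill h c.ne c.odd tv xv c.inv iv (shift c gs).inv (mem_cent1.1 k)))
  · calc _ = g * (g * v * g⁻¹) * g⁻¹ := by group
      _ = (g * u) * v * g⁻¹ := by rw [eg]; group
      _ = u * (g * v * g⁻¹) := by rw [cz uz]; group
      _ = v := by rw [eg, ← mul_assoc, uu, one_mul]
  · calc _ = g * τ⁻¹ * (g⁻¹ * (τ * v * τ⁻¹) * g) * τ * g⁻¹ := by group
      _ = g * τ⁻¹ * (g⁻¹ * v * g)⁻¹ * τ * g⁻¹ := by rw [iv]; group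
      _ = g * (τ⁻¹ * v * τ)⁻¹ * (τ⁻¹ * u⁻¹) * τ * g⁻¹ := by rw [eg']; group
      _ = g * v * (u⁻¹ * g⁻¹) := by rw [iv', cz (inv_mem uz)]; group
      _ = (g * v * g⁻¹) * u⁻¹ := by rw [← cz (inv_mem uz)]; group
      _ = v := by rw [eg, ← cz uz]; group

/-- An element of `S` inverted by `τ` is central in `S`. -/
theorem six (h : Hp G s) (h4 : ¬ 4 * s ∣ Nat.card G) (c : Cf s x S τ) {v : G} (hv : v ∈ S)
    (iv : τ * v * τ⁻¹ = v⁻¹) : S ≤ 𝐂[v] := by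
  obtain ⟨k, hk⟩ := two_mem c.syl.pgrp hv
  induction k generalizing v with
  | zero => rw [pow_zero, pow_one] at hk; rw [hk, cent1_one]; exact le_top
  | succ k ih =>
    refine six_step h h4 c hv iv (ih (mul_mem hv hv) ?_ ?_)
    · calc _ = (τ * v * τ⁻¹) * (τ * v * τ⁻¹) := by group
        _ = _ := by rw [iv]; group
    · rw [← pow_two, ← pow_mul, ← pow_succ', hk]

/-- `τ w τ⁻¹ = w a` with `a` central in `S`. -/
theorem seven (h : Hp G s) (h4 : ¬ 4 * s ∣ Nat.card G) (c : Cf s x S τ) (tt : τ * τ ∈ center G)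
    {w : G} (hw : w ∈ S) : ∃ a ∈ S, S ≤ 𝐂[a] ∧ τ * a * τ⁻¹ = a⁻¹ ∧ τ * w * τ⁻¹ = w * a := by
  have i : τ * (w⁻¹ * (τ * w * τ⁻¹)) * τ⁻¹ = (w⁻¹ * (τ * w * τ⁻¹))⁻¹ := by
    calc _ = τ * w⁻¹ * τ⁻¹ * ((τ * τ) * w * (τ * τ)⁻¹) := by group
      _ = _ := by rw [← cz tt]; group
  have m := mul_mem (inv_mem hw) (cj c hw)
  exact ⟨_, m, six h h4 c m i, i, by group⟩

theorem eight (h : Hp G s) (h4 : ¬ 4 * s ∣ Nat.card G) (c : Cf s x S τ) (tt : τ * τ ∈ center G)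
    {r : G} (hr : r ∈ S) (rr : r * r ∈ center G) : ∃ z ∈ center G, τ * r * τ⁻¹ = z * r := by
  obtain ⟨a, a1, a2, a3, a4⟩ := seven h h4 c tt hr
  have aa : a * a = 1 := by
    have e1 : τ * (r * r) * τ⁻¹ = r * r := by rw [cz rr]; group
    have e2 : τ * (r * r) * τ⁻¹ = r * r * (a * a) := by
      calc _ = (τ * r * τ⁻¹) * (τ * r * τ⁻¹) := by group
        _ = r * (a * r) * a := by rw [a4]; group
        _ = _ := by rw [mem_cent1.1 (a2 hr)]; group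
    exact mul_eq_left.1 (e2.symm.trans e1)
  have az := factE h c a1 aa (a3.trans (eq_inv_of_mul_eq_one_left aa).symm)
  exact ⟨a, az, by rw [a4, cz az]⟩

/-- `C_S(τ)` is normal in `S`. -/
theorem nine (h : Hp G s) (h4 : ¬ 4 * s ∣ Nat.card G) (c : Cf s x S τ) (tt : τ * τ ∈ center G)
    {r w : G} (hr : r ∈ S) (hw : w ∈ S) (e : τ * r * τ⁻¹ = r) :
    τ * (w * r * w⁻¹) * τ⁻¹ = w * r * w⁻¹ := by
  obtain ⟨a, -, a2, -, a4⟩ := seven h h4 c tt hw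
  calc _ = (τ * w * τ⁻¹) * (τ * r * τ⁻¹) * (τ * w * τ⁻¹)⁻¹ := by group
    _ = w * (a * r) * a⁻¹ * w⁻¹ := by rw [a4, e]; group
    _ = _ := by rw [mem_cent1.1 (a2 hr)]; group

end Cfsg.Agent.P30.D7
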