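/-
P30, chapter Dih: for `a = 1` and `G / Z` simple the Sylow 2-subgroups of `G / Z` are dihedral.
-/
import Cfsg.Agent.P30.Dih2
import Cfsg.Agent.H8.ThompsonTransfer
import Cfsg.Agent.H3.RankOne

set_option autoImplicit false
set_option linter.unusedSectionVars false

namespace Cfsg.Agent.P30.D7

open Subgroup Cfsg Cfsg.Agent Cfsg.Agent.FT
open Cfsg.Agent.P21 (Two)

universe u

variable {G : Type u} [Group G] [Finite G] {s : ℕ} {x τ : G} {S : Subgroup G}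

local notation "π" => QuotientGroup.mk' (center G)

theorem pi1 {a : G} : π a = 1 ↔ a ∈ center G := QuotientGroup.eq_one_iff a

theorem not_two (h : Hp G s) : ¬ IsPGroup 2 (⊤ : Subgroup (G ⧸ center G)) := fun k => by
  obtain ⟨x, x1, xo, -⟩ := h.ex
  have := k.comap_of_ker_isPGroup π (by rw [QuotientGroup.ker_mk']; exact H6.Half.isPGroup_center h.od)
  obtain ⟨n, hn⟩ := two_mem this (mem_top (π x) : x ∈ comap π ⊤)
  exact x1 (orderOf_eq_one_iff.1 (Nat.eq_one_of_dvd_coprimes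
    (Nat.Coprime.pow_right n (Nat.coprime_two_right.2 xo)) dvd_rfl (orderOf_dvd_of_pow_eq_one hn)))

theorem exists_cf (h : Hp G s) (hs : IsSimpleGroup (G ⧸ center G)) {u : G}
    (uu : u * u ∈ center G) (u0 : u ∉ center G) : ∃ (x : G) (S : Subgroup G), Cf s x S u := by
  haveI := Fact.mk Nat.prime_two
  have hZ := H6.Half.isPGroup_center h.od
  obtain ⟨y, p1, p2, iy, -⟩ := L.exists_inverted_of_not_mem_pCore (t := π u)
    (by rw [← map_mul, pi1]; exact uu) (by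
      rcases (pCore_normal 2 (G ⧸ center G)).eq_bot_or_eq_top with e | e
      · rw [e, mem_bot, pi1]; exact u0
      · exact (not_two h (e ▸ L.isPGroup_pCore 2)).elim)
  obtain ⟨y, rfl⟩ := QuotientGroup.mk'_surjective (center G) y
  obtain ⟨k, hk⟩ := exists_card_eq_pow Nat.prime_two hZ
  have ex : ∀ z ∈ center G, z ^ 2 ^ k = 1 := fun z hz => by
    rw [← hk]; exact congrArg Subtype.val (pow_card_eq_one' (x := (⟨z, hz⟩ : center G)))
  have po : Odd (orderOf (π y)) := p1.odd_of_ne_two p2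
  have z1 : u * y * u⁻¹ * y ∈ center G := by
    rw [← pi1, map_mul, map_mul, map_mul, map_inv, iy, inv_mul_cancel]
  have ix : u * y ^ 2 ^ k * u⁻¹ = (y ^ 2 ^ k)⁻¹ := by
    have : u * y * u⁻¹ = (u * y * u⁻¹ * y) * y⁻¹ := by group
    rw [← conj_pow, this, Commute.mul_pow (cz z1 _).symm, ex _ z1, one_mul, inv_pow]
  have xo : Odd (orderOf (y ^ 2 ^ k)) := Odd.of_dvd_nat po (orderOf_dvd_of_pow_eq_one (by
    rw [← pow_mul, mul_comm, pow_mul]
    exact ex _ (by rw [← pi1, map_pow, pow_orderOf_eq_one])))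
  have x1 : y ^ 2 ^ k ≠ 1 := fun e => p1.one_lt.ne' (Nat.eq_one_of_dvd_coprimes
    (Nat.Coprime.pow_right k (Nat.coprime_two_right.2 po)) dvd_rfl
    (orderOf_dvd_of_pow_eq_one (by rw [← map_pow, e, map_one])))
  generalize y ^ 2 ^ k = x at ix xo x1
  have ux : u ∉ 𝐂[x] := fun k => odd_ne x1 xo ((mem_cent1_iff_conj.1 k).symm.trans ix)
  have nC : u ∈ 𝐍(𝐂[x]) := nrm_of (by rw [ix, cent1_inv])
  have c2 : u * u ∈ 𝐂[x] := mem_cent1.2 (cz uu x)
  obtain ⟨E, e1, e2, e3, -⟩ := exists_ext nC c2 ux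
  obtain ⟨P, hP, uP⟩ := exists_isSyl_ge Nat.prime_two (P21.Two.zp (x := u) ⟨k + 1, by
    rw [pow_succ', pow_mul, pow_two, ex _ uu]⟩) (zpowers_le.2 e2)
  have sy := hP.inf_normal Nat.prime_two (K := 𝐂[x]) ⟨e1, fun g hg => (e3 g hg).elim
    (fun k => le_normalizer k) fun k => (mul_mem_cancel_right nC).1 (le_normalizer k)⟩
  obtain ⟨S, hS, e⟩ := h.syl x (real_of ix) fun k => ux (mem_cent1.2 (cz k u).symm)
  have uP' := uP (mem_zpowers u)
  exact ⟨x, _, x1, xo, sy, (sy.card_eq Nat.prime_two hS).trans e, ix,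
    H1.le_normalizer_inf (A := zpowers u) (zpowers_le.2 (le_normalizer uP')) (zpowers_le.2 nC)
      (mem_zpowers u), ⟨mul_mem uP' uP', c2⟩⟩

theorem transfer (h : Hp G s) (h4 : ¬ 4 * s ∣ Nat.card G) (hs : IsSimpleGroup (G ⧸ center G))
    (c : Cf s x S τ) {u : G} (uu : u * u ∈ center G) : ∃ g : G, g * u * g⁻¹ ∈ S := by
  by_contra n
  obtain ⟨T, t1, -, -, t4, t5⟩ := exT c
  have s0 : 0 < s := c.card ▸ Nat.card_pos
  have e1 : S.relIndex T = 2 := by
    have := H1.card_mul_relIndex t1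
    rw [c.card, t4, mul_comm] at this
    exact Nat.eq_of_mul_eq_mul_right s0 this
  have kz : (π).ker ≤ S := by rw [QuotientGroup.ker_mk']; exact zle h c
  obtain ⟨N, nN, iN, -⟩ := H8.exists_normal_index_two_of_not_conj (S.map π) (k := T.index)
    (Nat.not_even_iff_odd.1 fun k => (sylT h4 t4 t5).ndvd (by
      rw [relIndex_top_right]; exact even_iff_two_dvd.1 k))
    (by rw [index_map_eq _ (QuotientGroup.mk'_surjective _) kz, ← relIndex_mul_index t1, e1])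
    (t := π u) (by rw [pow_two, ← map_mul, pi1]; exact uu) (fun g hg => by
      obtain ⟨g, rfl⟩ := QuotientGroup.mk'_surjective (center G) g
      rw [← map_inv, ← map_mul, ← map_mul] at hg
      exact n ⟨g, comap_map_eq_self kz ▸ (mem_comap.2 hg)⟩)
  rcases nN.eq_bot_or_eq_top with e | e
  · rw [e, index_bot] at iN
    exact not_two h (isPGroup_of_card_prime (by rw [card_top, iN]))
  · rw [e, index_top] at iN; omega

theorem good_step (h : Hp G s) (h4 : ¬ 4 * s ∣ Nat.card G) (hs : IsSimpleGroup (G ⧸ center G))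
    {i : G} (ii : i * i ∈ center G) (i0 : i ∉ center G) : ∃ y, y ∉ center G ∧ IsConj y y⁻¹ ∧
      y * y ∈ center G ∧ (i * i = 1 → y * y ≠ 1) := by
  obtain ⟨x, S, c⟩ := exists_cf h hs ii i0
  obtain ⟨g, hg⟩ := transfer h h4 hs c ii
  have e : g * i * g⁻¹ * (g * i * g⁻¹) = i * i := by
    calc _ = g * (i * i) * g⁻¹ := by group
      _ = _ := by rw [cz ii]; group
  have j0 : g * i * g⁻¹ ∉ center G := fun k => i0 (by
    have := (inferInstance : (center G).Normal).conj_mem _ k g⁻¹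
    simpa [mul_assoc] using this)
  generalize g * i * g⁻¹ = j at hg e j0
  obtain ⟨z, hz, ez⟩ := eight h h4 c ii hg (e ▸ ii)
  have e2 : i⁻¹ * j * (i⁻¹ * j) = z := by
    calc _ = (i * i)⁻¹ * (i * j * i⁻¹) * j := by group
      _ = ((i * i)⁻¹ * z) * (j * j) := by rw [ez]; group
      _ = z := by rw [e, cz hz]; group
  refine ⟨i⁻¹ * j, fun k => nS c ?_, real_of (g := i) ?_, e2 ▸ hz, fun k k2 => j0 ?_⟩
  · have := mul_mem hg (inv_mem (zle h c k))
    simpa using this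
  · calc _ = j * i⁻¹ := by group
      _ = j⁻¹ * ((j * j) * i⁻¹) := by group
      _ = j⁻¹ * i := by rw [e]; group
      _ = _ := by group
  · rw [e2] at k2
    exact factE h c hg (e.trans k) (by rw [ez, k2, one_mul])

theorem inv_pow_odd {g z : G} (h : g * z * g⁻¹ = z⁻¹) {m : ℕ} (hm : Odd m) :
    g ^ m * z * (g ^ m)⁻¹ = z⁻¹ := by
  obtain ⟨j, rfl⟩ := hm
  have h1 : g ^ 2 ∈ 𝐂[z⁻¹] := by
    rw [cent1_inv, mem_cent1_iff_conj]
    calc g ^ 2 * z * (g ^ 2)⁻¹ = g * (g * z * g⁻¹) * g⁻¹ := by rw [pow_two]; group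
      _ = (g * z * g⁻¹)⁻¹ := by rw [conj_inv, ← h]
      _ = z := by rw [h, inv_inv]
  calc _ = (g ^ 2) ^ j * (g * z * g⁻¹) * ((g ^ 2) ^ j)⁻¹ := by rw [pow_succ, pow_mul]; group
    _ = _ := by rw [h, mem_cent1_iff_conj.1 (pow_mem h1 j)]

theorem good (h : Hp G s) (h4 : ¬ 4 * s ∣ Nat.card G) (hs : IsSimpleGroup (G ⧸ center G)) :
    ∃ t, t ∉ center G ∧ IsConj t t⁻¹ ∧ t * t ∈ center G ∧ t * t ≠ 1 := by
  haveI := Fact.mk Nat.prime_two
  obtain ⟨x, x1, xo, xr⟩ := h.ex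
  obtain ⟨g, hg⟩ := isConj_iff.1 xr
  obtain ⟨i, hi⟩ := exists_prime_orderOf_dvd_card' (G := G ⧸ center G) 2 (by
    by_contra k
    have := inv_pow_odd hg (Nat.not_even_iff_odd.1 fun e => k (even_iff_two_dvd.1 e))
    rw [← cz (z := g ^ Nat.card (G ⧸ center G)) (pi1.1 (by rw [map_pow, pow_card_eq_one'])) x,
      mul_inv_cancel_right] at this
    exact odd_ne x1 xo this)
  obtain ⟨i, rfl⟩ := QuotientGroup.mk'_surjective (center G) i
  obtain ⟨y, y0, y1, y2, -⟩ := good_step h h4 hs (i := i)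
    (by rw [← pi1, map_mul, ← pow_two, ← hi, pow_orderOf_eq_one])
    (fun k => by rw [pi1.2 k, orderOf_one] at hi; omega)
  by_cases e : y * y = 1
  · obtain ⟨t, t0, t1, t2, t3⟩ := good_step h h4 hs y2 y0
    exact ⟨t, t0, t1, t2, t3 e⟩
  · exact ⟨y, y0, y1, y2, e⟩

theorem inv_of (h : Hp G s) (h4 : ¬ 4 * s ∣ Nat.card G) {r a z : G} (rr : IsConj r r⁻¹)
    (r2 : r * r ∈ center G) (r1 : r * r ≠ 1) (hz : z ∈ center G) (e : a * r * a⁻¹ = z * r)
    (z1 : z ≠ 1) : a * r * a⁻¹ = r⁻¹ := by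
  obtain ⟨g, hg⟩ := isConj_iff.1 rr
  have r0 : r ∉ center G := fun k => r1 (by
    rw [cz k, mul_inv_cancel_right] at hg
    nth_rewrite 1 [hg]; exact inv_mul_cancel r)
  rw [e, two h h4 rr r0 r2 hz (inv_mem r2) e (b := g) (by rw [hg]; group) z1 (inv_ne_one.2 r1)]
  group

theorem beta (h : Hp G s) (h4 : ¬ 4 * s ∣ Nat.card G) (hs : IsSimpleGroup (G ⧸ center G))
    {t u : G} (rr : IsConj t t⁻¹) (t2 : t * t ∈ center G) (t1 : t * t ≠ 1)
    (uu : u * u ∈ center G) (u0 : u ∉ center G) :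
    ∃ r, IsConj r r⁻¹ ∧ r * r = t * t ∧ u * r * u⁻¹ = r⁻¹ := by
  obtain ⟨x, S, c⟩ := exists_cf h hs uu u0
  obtain ⟨g, hg⟩ := transfer h h4 hs c t2
  have e : g * t * g⁻¹ * (g * t * g⁻¹) = t * t := by
    calc _ = g * (t * t) * g⁻¹ := by group
      _ = _ := by rw [cz t2]; group
  have rr' : IsConj (g * t * g⁻¹) (g * t * g⁻¹)⁻¹ := by
    obtain ⟨a, ha⟩ := isConj_iff.1 rr
    refine real_of (g := g * a * g⁻¹) ?_
    calc _ = g * (a * t * a⁻¹) * g⁻¹ := by group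
      _ = _ := by rw [ha]; group
  generalize g * t * g⁻¹ = r at hg e rr'
  rw [← e] at t2 t1
  refine ⟨r, rr', e, ?_⟩
  obtain ⟨z, hz, ez⟩ := eight h h4 c uu hg t2
  refine inv_of h h4 rr' t2 t1 hz ez fun z1 => ?_
  rw [z1, one_mul] at ez
  have r0 : r ∉ center G := fun k => t1 (by
    obtain ⟨g, hg⟩ := isConj_iff.1 rr'
    rw [cz k, mul_inv_cancel_right] at hg
    nth_rewrite 1 [hg]; exact inv_mul_cancel r)
  have n : ¬ S ≤ 𝐂[r] := fun k => by
    obtain ⟨T, -, -, t3, t4, -⟩ := exT c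
    have uc : u ∈ 𝐂[r] := mem_cent1_iff_conj.2 ez
    exact ndvd h rr' r0 (t4 ▸ Subgroup.card_dvd_of_le fun g hg => (t3 g hg).elim (fun e => k e)
      fun e => (mul_mem_cancel_right uc).1 (k e))
  obtain ⟨w, w1, w2, w3⟩ := H1.exists_mem_normalizer_of_lt (P := S ⊓ 𝐂[r])
    (isNilpotent_of_isPGroup Nat.prime_two c.syl.pgrp)
    (lt_of_le_of_ne inf_le_left fun e => n (inf_eq_left.1 e))
  have c1 : r * (w⁻¹ * r * w) = w⁻¹ * r * w * r := mem_cent1.1 (by
    have := (mem_normalizer_iff.1 (inv_mem w2) r).1 ⟨hg, self_mem_cent1 r⟩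
    rw [inv_inv] at this
    exact this.2)
  have c2 : Commute r (w * r * w⁻¹) := by
    calc r * (w * r * w⁻¹) = w * (w⁻¹ * r * w * r) * w⁻¹ := by group
      _ = _ := by rw [← c1]; group
  have c3 := nine h h4 c uu hg w1 ez
  have c4 : w * r * w⁻¹ * (w * r * w⁻¹) = r * r := by
    calc _ = w * (r * r) * w⁻¹ := by group
      _ = _ := by rw [cz t2]; group
  have az : w * r * w⁻¹ * r⁻¹ ∈ center G := factE h c
    (mul_mem (mul_mem (mul_mem w1 hg) (inv_mem w1)) (inv_mem hg)) (by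
      calc _ = w * r * w⁻¹ * (r⁻¹ * (w * r * w⁻¹)) * r⁻¹ := by group
        _ = (w * r * w⁻¹ * (w * r * w⁻¹)) * (r * r)⁻¹ := by rw [c2.inv_left.eq]; group
        _ = 1 := by rw [c4]; group) (by
      calc _ = (u * (w * r * w⁻¹) * u⁻¹) * (u * r * u⁻¹)⁻¹ := by group
        _ = _ := by rw [c3, ez])
  have iw := inv_of h h4 (a := w) rr' t2 t1 az (by group) fun k =>
    w3 ⟨w1, mem_cent1_iff_conj.2 (mul_inv_eq_one.1 k)⟩
  refine n (six h h4 (shift c w1) hg ?_)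
  calc _ = w * (u * r * u⁻¹) * w⁻¹ := by group
    _ = _ := by rw [ez, iw]

theorem cent_eq (h : Hp G s) (h4 : ¬ 4 * s ∣ Nat.card G) (hs : IsSimpleGroup (G ⧸ center G))
    {t : G} (c : Cf s x S t) (rr : IsConj t t⁻¹) (t2 : t * t ∈ center G) (t1 : t * t ≠ 1)
    {a : G} (ha : a ∈ S) (ea : t * a * t⁻¹ = a) : a ∈ center G := by
  by_contra a0
  obtain ⟨T, s1, s2, s3, s4, s5⟩ := exT c
  have nS' : S ≤ 𝐍((S ⊓ 𝐂[t] : Subgroup G)) := fun w hw => mem_norm_of_conj_le (by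
    rintro _ ⟨r, hr, rfl⟩
    change w * r * w⁻¹ ∈ _
    exact ⟨mul_mem (mul_mem hw hr.1) (S.inv_mem hw), mem_cent1_comm.1 (mem_cent1_iff_conj.2
      (nine h h4 c t2 hr.1 hw (mem_cent1_iff_conj.1 (mem_cent1_comm.1 hr.2))))⟩)
  have nt : t ∈ 𝐍((S ⊓ 𝐂[t] : Subgroup G)) := H1.le_normalizer_inf (A := zpowers t)
    (zpowers_le.2 c.nrm) (zpowers_le.2 (le_normalizer (self_mem_cent1 t))) (mem_zpowers t)
  obtain ⟨_, ⟨b, hb, rfl⟩, b1, b2, b3⟩ := P4.exists_invol_center (P := T.map π)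
    (N := (S ⊓ 𝐂[t]).map π) (s5.map π) ⟨map_mono (inf_le_left.trans s1),
      (map_mono fun g hg => (s3 g hg).elim (fun k => nS' k)
        fun k => (mul_mem_cancel_right nt).1 (nS' k)).trans (le_normalizer_map π)⟩
    (fun e => a0 (pi1.1 (mem_bot.1 (e ▸ mem_map_of_mem π
      (⟨ha, mem_cent1_comm.1 (mem_cent1_iff_conj.2 ea)⟩ : a ∈ S ⊓ 𝐂[t])))))
  have bb : b * b ∈ center G := by rw [← pi1, map_mul, b3]
  obtain ⟨r0, q1, q2, q3⟩ := beta h h4 hs rr t2 t1 bb fun k => b2 (pi1.2 k)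
  have TH : T ≤ 𝐂[π b].comap π := fun g hg =>
    mem_comap.2 (mem_cent1.2 (mem_cent.1 b1 _ (mem_map_of_mem π hg)).symm)
  obtain ⟨k, hk⟩ := two_mem (H6.Half.isPGroup_center h.od) t2
  obtain ⟨g, g1, g2⟩ := ((sylT h4 s4 s5).of_le TH le_top).exists_conj_le Nat.prime_two
    (P21.Two.zp (x := r0) ⟨k + 1, by rw [pow_succ', pow_mul, pow_two, q2, hk]⟩)
    (zpowers_le.2 (mem_comap.2 (mem_cent1_comm.1 (mem_cent1_iff_conj.2 (by
      rw [← map_inv, ← map_mul, ← map_mul, q3, map_inv, inv_eq_iff_mul_eq_one, ← map_mul, pi1, q2]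
      exact t2)))))
  have gz : b⁻¹ * (g⁻¹ * b * g) ∈ center G := by
    rw [← pi1, map_mul, map_mul, map_mul, map_inv, map_inv, mul_assoc (π g)⁻¹,
      mem_cent1.1 (mem_comap.1 g1)]
    group
  have rT := g2 (conj_mem_conj (mem_zpowers r0) g)
  have e1 : g * r0 * g⁻¹ * (g * r0 * g⁻¹) = t * t := by
    calc _ = g * (r0 * r0) * g⁻¹ := by group
      _ = _ := by rw [q2, cz t2]; group
  have e2 : b * (g * r0 * g⁻¹) * b⁻¹ = (g * r0 * g⁻¹)⁻¹ := by
    calc _ = g * (b * ((b⁻¹ * (g⁻¹ * b * g)) * r0) * (b⁻¹ * (g⁻¹ * b * g))⁻¹ * b⁻¹) * g⁻¹ := by group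
      _ = g * (b * r0 * b⁻¹) * g⁻¹ := by rw [← cz gz]; group
      _ = _ := by rw [q3]; group
  generalize g * r0 * g⁻¹ = r at rT e1 e2
  have fin : b ∉ 𝐂[r] := fun k => t1 (by
    rw [mem_cent1_iff_conj.1 k] at e2
    rw [← e1]; nth_rewrite 1 [e2]; exact inv_mul_cancel r)
  have tb : t * b = b * t := mem_cent1.1 hb.2
  rcases s3 r rT with k | k
  · obtain ⟨z, hz, ez⟩ := eight h h4 c t2 k (e1 ▸ t2)
    by_cases z1 : z = 1
    · rw [z1, one_mul] at ez
      refine fin (six h h4 (shift c hb.1) k ?_ hb.1)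
      calc _ = b * (t * r * t⁻¹) * b⁻¹ := by group
        _ = _ := by rw [ez, e2]
    · exact fin (six h h4 c k (inv_of h h4 (real_of e2) (e1 ▸ t2) (e1 ▸ t1) hz ez z1) hb.1)
  · have m : r * t⁻¹ ∈ S := by convert mul_mem k (inv_mem c.sq) using 1; group
    have := mem_cent1.1 (six h h4 c m (by
      calc _ = t * r * (t * t)⁻¹ := by group
        _ = _ := by rw [← e1]; group) hb.1)
    refine fin (mem_cent1.2 ?_)
    calc r * b = r * t⁻¹ * (t * b) := by group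
      _ = (r * t⁻¹ * b) * t := by rw [tb]; group
      _ = b * r := by rw [this]; group

theorem _root_.Cfsg.Agent.P30.dihStmt : DihStmt.{u} := by
  intro G _ _ s h h4 hs
  haveI := Fact.mk Nat.prime_two
  obtain ⟨t, t0, rr, t2, t1⟩ := good h h4 hs
  obtain ⟨x, S, c⟩ := exists_cf h hs t2 t0
  have C0 := @cent_eq G _ _ s x S h h4 hs t c rr t2 t1
  have cyc : IsCyclic (S.map (QuotientGroup.mk' (center G))) := by
    by_contra n
    obtain ⟨E, e1, e2, e3⟩ := H3.exists_elementary_sq_le (c.syl.pgrp.map _)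
      (isMulComm_iff_le_cent.2 (by
        rintro _ ⟨v, hv, rfl⟩
        refine mem_cent.2 ?_
        rintro _ ⟨w, hw, rfl⟩
        obtain ⟨a, a1, a2, -, a4⟩ := seven h h4 c t2 hw
        rw [← mul_inv_eq_one, ← map_mul, ← map_mul, ← map_inv, ← map_mul, pi1]
        obtain ⟨b, b1, b2, -, b4⟩ := seven h h4 c t2 hv
        refine C0 (mul_mem (mul_mem hw hv) (inv_mem (mul_mem hv hw))) ?_
        calc _ = (t * w * t⁻¹) * (t * v * t⁻¹) * ((t * v * t⁻¹) * (t * w * t⁻¹))⁻¹ := by group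
          _ = w * (a * v) * b * (v * (b * w) * a)⁻¹ := by rw [a4, b4]; group
          _ = w * v * (a * b) * (v * w * (b * a))⁻¹ := by
            rw [mem_cent1.1 (a2 hv), mem_cent1.1 (b2 hw)]; group
          _ = _ := by rw [mem_cent1.1 (a2 b1)]; group)) n
    have key : ∀ a ∈ E, a ≠ 1 → ∃ v ∈ S, QuotientGroup.mk' (center G) v = a ∧
        v * t * v⁻¹ = t⁻¹ := fun a ha a1 => by
      obtain ⟨v, hv, rfl⟩ := e1 ha
      obtain ⟨z, hz, ez⟩ := eight h h4 c t2 hv (by rw [← pi1, map_mul, ← pow_two, e2.2 _ ha])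
      exact ⟨v, hv, rfl, inv_of h h4 (a := v) rr t2 t1 (inv_mem hz) (by
        calc v * t * v⁻¹ = z⁻¹ * (z * v) * t * v⁻¹ := by group
          _ = z⁻¹ * (t * v * t⁻¹) * t * v⁻¹ := by rw [ez]
          _ = z⁻¹ * t := by group)
        (inv_ne_one.2 fun z1 => a1 (pi1.2 (C0 hv (by rw [ez, z1, one_mul]))))⟩
    have un : ∀ a ∈ E, a ≠ 1 → ∀ b ∈ E, b ≠ 1 → a = b := fun a ha a1 b hb b1 => by
      obtain ⟨v, hv, rfl, ev⟩ := key a ha a1
      obtain ⟨w, hw, rfl, ew⟩ := key b hb b1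
      rw [← inv_mul_eq_one, ← map_inv, ← map_mul, pi1]
      refine C0 (mul_mem (inv_mem hv) hw) ?_
      calc _ = v⁻¹ * (v * t * v⁻¹) * (w * t * w⁻¹)⁻¹ * w := by group
        _ = _ := by rw [ev, ew]; group
    obtain ⟨a, ha, a1⟩ := (bot_or_exists_ne_one E).resolve_left fun e => by
      rw [e, card_bot] at e3; omega
    have : E ≤ zpowers a := fun b hb => by
      by_cases b1 : b = 1
      · rw [b1]; exact one_mem _
      · rw [un b hb b1 a ha a1]; exact mem_zpowers a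
    have := Nat.le_of_dvd Nat.card_pos (Subgroup.card_dvd_of_le this)
    rw [e3, Nat.card_zpowers, orderOf_eq_prime (e2.2 a ha) a1] at this
    omega
  obtain ⟨w, ew⟩ := isCyclic_iff_zpowers.1 cyc
  obtain ⟨w, hw, rfl⟩ : w ∈ S.map (QuotientGroup.mk' (center G)) := ew ▸ mem_zpowers w
  have le : S ≤ zpowers w ⊔ center G := fun v hv => by
    have := mem_map_of_mem (QuotientGroup.mk' (center G)) hv
    rw [← ew, ← MonoidHom.map_zpowers, ← mem_comap, comap_map_eq, QuotientGroup.ker_mk'] at this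
    exact this
  obtain ⟨a, a1, a2, a3, a4⟩ := seven h h4 c t2 hw
  refine ⟨x, t, w, S, c, t2, hw, fun k => ?_, le, C0 (mul_mem hw (cj c hw)) ?_⟩
  · obtain ⟨T, -, -, t3, t4, -⟩ := exT c
    have sc : S ≤ 𝐂[t] := fun v hv =>
      mem_cent1.2 (cz ((le.trans (sup_le (zpowers_le.2 k) le_rfl)) hv) t)
    exact ndvd h rr t0 (t4 ▸ Subgroup.card_dvd_of_le fun g hg => (t3 g hg).elim (fun e => sc e)
      fun e => (mul_mem_cancel_right (self_mem_cent1 t)).1 (sc e))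
  · calc _ = (t * w * t⁻¹) * ((t * t) * w * (t * t)⁻¹) := by group
      _ = (w * a) * w := by rw [← cz t2, a4]; group
      _ = _ := by rw [a4, mul_assoc, mem_cent1.1 (a2 hw)]

end Cfsg.Agent.P30.D7
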