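/-
P30, End: a simple group with dihedral Sylow 2-subgroups has a real element of odd order whose
centralizer has odd order.
-/
import Cfsg.Agent.P30.Defs
import Cfsg.Agent.P15.Main

set_option autoImplicit false
set_option linter.unusedSectionVars false

namespace Cfsg.Agent.P30

open Subgroup Cfsg Cfsg.Agent Cfsg.Agent.FT

universe u

namespace En

variable {X : Type u} [Group X] [Finite X]

/-- The involutions different from `t` commuting with `t`. -/
def Nb (t : X) : Set X := {c | c ≠ 1 ∧ c * c = 1 ∧ c ≠ t ∧ Commute t c}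

theorem ncard_Nb_conj {t c : X} (h : IsConj t c) : (Nb c).ncard = (Nb t).ncard := by
  obtain ⟨g, rfl⟩ := isConj_iff.1 h
  have e : Nb (g * t * g⁻¹) = (fun a => g * a * g⁻¹) '' Nb t := by
    ext a
    constructor
    · rintro ⟨h1, h2, h3, h4⟩
      refine ⟨g⁻¹ * a * g, ⟨fun e => h1 ?_, ?_, fun e => h3 ?_, ?_⟩, by group⟩
      · calc a = g * (g⁻¹ * a * g) * g⁻¹ := by group
          _ = 1 := by rw [e]; group
      · calc g⁻¹ * a * g * (g⁻¹ * a * g) = g⁻¹ * (a * a) * g := by group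
          _ = 1 := by rw [h2]; group
      · rw [← e]; group
      · calc t * (g⁻¹ * a * g) = g⁻¹ * (g * t * g⁻¹ * a) * g := by group
          _ = g⁻¹ * a * g * t := by rw [h4.eq]; group
    · rintro ⟨b, ⟨h1, h2, h3, h4⟩, rfl⟩
      refine ⟨fun e => h1 (by simpa using e), ?_, fun e => h3 (by simpa using e), ?_⟩
      · calc g * b * g⁻¹ * (g * b * g⁻¹) = g * (b * b) * g⁻¹ := by group
          _ = 1 := by rw [h2]; group
      · calc g * t * g⁻¹ * (g * b * g⁻¹) = g * (t * b) * g⁻¹ := by group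
          _ = g * b * g⁻¹ * (g * t * g⁻¹) := by rw [h4.eq]; group
  rw [e, Set.ncard_image_of_injective _ fun a b h => by simpa using h]

/-- Two involutions have a common neighbour. -/
theorem common (hev : ∀ x : X, RO x → 2 ∣ 𝐨(𝐂[x])) {t e : X} (t1 : t ≠ 1) (tt : t * t = 1)
    (e1 : e ≠ 1) (ee : e * e = 1) (ne : e ≠ t) : ∃ c ∈ Nb t, e ∈ Nb c := by
  have ti := (inv_eq_of_mul_eq_one_right tt : t⁻¹ = t)
  have ei := (inv_eq_of_mul_eq_one_right ee : e⁻¹ = e)
  have w1 : t * e ≠ 1 := fun h => ne (by rw [← ti]; exact (eq_inv_of_mul_eq_one_right h))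
  by_cases hc : Commute t e
  · refine ⟨t * e, ⟨w1, ?_, fun h => e1 (by simpa using h), (Commute.refl t).mul_right hc⟩,
      e1, ee, fun h => t1 (by simpa using h), hc.mul_left (Commute.refl e)⟩
    calc t * e * (t * e) = t * (e * t) * e := by group
      _ = (t * t) * (e * e) := by rw [← hc.eq]; group
      _ = 1 := by rw [tt, ee, one_mul]
  have key : ∃ c : X, c ≠ 1 ∧ c * c = 1 ∧ Commute c t ∧ Commute c e := by
    rcases Nat.even_or_odd (orderOf (t * e)) with h | h
    · obtain ⟨k, h1⟩ := L.exists_invol_commute_of_even tt ee h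
      exact ⟨_, h1⟩
    have hi : t * (t * e) * t⁻¹ = (t * e)⁻¹ := by
      rw [mul_inv_rev, ti, ei, ← mul_assoc, tt, one_mul]
    have h2 := hev _ ⟨w1, h, isConj_iff.2 ⟨t, hi⟩⟩
    have hn : zpowers t ≤ 𝐍(𝐂[t * e]) := by
      refine zpowers_le_of_mem (mem_normalizer_fintype fun a ha => ?_)
      have ha' : Commute (t * e) a := mem_cent1.1 ha
      refine mem_cent1.2 ?_
      have : t * e = t * (t * e)⁻¹ * t⁻¹ := by
        rw [mul_inv_rev, ti, ei, mul_assoc, mul_assoc, tt, mul_one]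
      rw [this]
      calc t * (t * e)⁻¹ * t⁻¹ * (t * a * t⁻¹) = t * ((t * e)⁻¹ * a) * t⁻¹ := by group
        _ = t * a * t⁻¹ * (t * (t * e)⁻¹ * t⁻¹) := by rw [ha'.inv_left.eq]; group
    have hK : 𝐂[t * e] ⊲ (𝐂[t * e] ⊔ zpowers t) := ⟨le_sup_left, sup_le le_normalizer hn⟩
    have ht2 : IsPGroup 2 (zpowers t) :=
      isPGroup_of_card_prime (by rw [Nat.card_zpowers]; exact orderOf_eq_prime (by rw [sq, tt]) t1)
    obtain ⟨P, hP, hle⟩ := exists_isSyl_ge Nat.prime_two ht2
      (le_sup_right : zpowers t ≤ 𝐂[t * e] ⊔ zpowers t)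
    have hN : (P ⊓ 𝐂[t * e]) ⊲ P := by rw [inf_comm]; exact inf_normal hK hP.le
    obtain ⟨c, hc1, hc2, c1, cc⟩ := P4.exists_invol_center hP.pgrp hN
      ((hP.inf_normal Nat.prime_two hK).ne_bot Nat.prime_two h2)
    have ct : Commute c t := (mem_centralizer_iff.1 hc2 t (hle (mem_zpowers t))).symm
    refine ⟨c, c1, cc, ct, ?_⟩
    have := ct.mul_right (mem_cent1.1 hc1.2).symm
    rwa [← mul_assoc, tt, one_mul] at this
  obtain ⟨c, c1, cc, ct, ce⟩ := key
  exact ⟨c, ⟨c1, cc, fun h => hc (h ▸ ce), ct.symm⟩, e1, ee, fun h => hc (h ▸ ct.symm), ce⟩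

theorem count (hev : ∀ x : X, RO x → 2 ∣ 𝐨(𝐂[x])) {t : X} (t1 : t ≠ 1) (tt : t * t = 1)
    (hc : ∀ u : X, u ≠ 1 → u * u = 1 → IsConj t u) {k : ℕ} (hk : (Nb t).ncard ≤ k) :
    (𝐂[t] : Subgroup X).index ≤ 1 + k * (k - 1) := by
  classical
  have h0 := P6.ncard_class (⊤ : Subgroup X) t
  rw [relIndex_top_right] at h0
  rw [← h0]
  have hs : {c | ∃ y ∈ (⊤ : Subgroup X), y * t * y⁻¹ = c} ⊆
      insert t ↑((Set.toFinite (Nb t)).toFinset.biUnion fun c =>
        (Set.toFinite (Nb c \ {t})).toFinset) := by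
    rintro _ ⟨y, -, rfl⟩
    by_cases e : y * t * y⁻¹ = t
    · exact Or.inl e
    obtain ⟨c, h1, h2⟩ := common hev t1 tt (e := y * t * y⁻¹) (by simpa using t1)
      (by calc y * t * y⁻¹ * (y * t * y⁻¹) = y * (t * t) * y⁻¹ := by group
        _ = 1 := by rw [tt]; group) e
    refine Or.inr ?_
    simp only [Finset.coe_biUnion, Set.Finite.coe_toFinset, Set.mem_iUnion]
    exact ⟨c, h1, h2, e⟩
  refine (Set.ncard_le_ncard hs (Set.toFinite _)).trans ((Set.ncard_insert_le _ _).trans ?_)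
  rw [Set.ncard_coe_finset, add_comm]
  refine Nat.add_le_add_left (Finset.card_biUnion_le.trans ?_) 1
  refine (Finset.sum_le_card_nsmul _ _ (k - 1) fun c h => ?_).trans ?_
  · obtain ⟨c1, cc, ct, h4⟩ : c ∈ Nb t := by simpa using h
    rw [← Set.ncard_eq_toFinset_card, Set.ncard_diff_singleton_of_mem
      (show t ∈ Nb c from ⟨t1, tt, ct.symm, h4.symm⟩), ncard_Nb_conj (hc c c1 cc)]
    omega
  · rw [← Set.ncard_eq_toFinset_card, smul_eq_mul]
    exact Nat.mul_le_mul_right _ hk

theorem bsw (ns : ¬ Group.IsSolvable X) (hev : ∀ x : X, RO x → 2 ∣ 𝐨(𝐂[x])) {K : Subgroup X}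
    {t s : X} (b : P3.BSW K t s) : False := by
  have hk : (Nb t).ncard ≤ 𝐨(K) := by
    have : Nb t ⊆ (fun a => s * a) '' (K : Set X) := by
      rintro c ⟨c1, cc, ct, h⟩
      rcases b.centt c h with e | e
      · exact absurd (b.uniq c e cc) (by tauto)
      · exact ⟨s * c, e, b.s_mul_s_mul c⟩
    exact (Set.ncard_le_ncard this (Set.toFinite _)).trans
      ((Set.ncard_image_le (Set.toFinite _)).trans (le_of_eq rfl))
  have h1 := count hev b.t1 b.tt b.isConj hk
  obtain ⟨F, _, _, hq, ⟨e⟩⟩ := b.exists_psl2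
  have h2 := P3.two_mul_card_PSL2 (F := F) (by rw [Nat.card_eq_fintype_card, Nat.odd_iff]; omega)
  rw [← Nat.card_congr e.toEquiv, Nat.card_eq_fintype_card (α := F)] at h2
  have h3 := (𝐂[t] : Subgroup X).card_mul_index
  rw [b.card_N] at h3
  have h4 := P5.card_ne_twelve ns
  obtain ⟨m, hm⟩ := b.two_dvd
  have h5 : 0 < 𝐨(K) := Nat.card_pos
  generalize 𝐨(K) = k at *
  generalize (𝐂[t] : Subgroup X).index = N at *
  generalize Fintype.card F = q at *
  obtain ⟨j, rfl⟩ : ∃ j, k = j + 1 := ⟨k - 1, by omega⟩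
  rw [← h3] at h2 h4
  rw [Nat.add_sub_cancel] at h1
  rcases hq with rfl | hq
  · rw [Nat.add_sub_cancel] at h2
    have : N = (2 * j + 3) * (j + 2) :=
      Nat.eq_of_mul_eq_mul_left (show 0 < 4 * (j + 1) by omega) (by linarith)
    nlinarith
  · obtain rfl : q = 2 * j + 1 := by omega
    rw [Nat.add_sub_cancel] at h2
    have : N = (2 * j + 1) * j :=
      Nat.eq_of_mul_eq_mul_left (show 0 < 4 * (j + 1) by omega) (by linarith)
    subst this
    have : j ≠ 1 := by rintro rfl; omega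
    have : 3 ≤ j := by omega
    nlinarith

theorem a7 (hev : ∀ x : X, RO x → 2 ∣ 𝐨(𝐂[x])) {U : Subgroup X} {y t s : X}
    (a : P15.A7 ⊤ U y t s) : False := by
  have d := a.dh
  have ty : y * y = t := by rw [← d.ty]; simp [sq]
  have y4 : y ^ 4 = 1 := by rw [← d.ord, pow_orderOf_eq_one]
  have sq1 : ∀ u ∈ U, u * u = 1 → u = 1 := fun u hu uu => by
    by_contra h
    have h2 := orderOf_dvd_card_of_mem hu
    rw [orderOf_eq_prime (p := 2) (by rw [sq, uu]) h, a.cU] at h2
    omega
  have hk : (Nb t).ncard ≤ 8 := by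
    have : Nb t ⊆ ((fun u => u * y * s) '' (U : Set X) ∪ (fun u => u * y⁻¹ * s) '' (U : Set X)) ∪
        {s, t * s} := by
      rintro c ⟨c1, cc, ct, h⟩
      rcases d.cover' ⟨mem_top c, mem_cent1.2 h⟩ with e | e
      · exact absurd (d.invol_A e cc) (by tauto)
      obtain ⟨u, hu, z, hz, e' | e'⟩ := d.cover c ⟨mem_top c, mem_cent1.2 h⟩
      · exact absurd (d.invol_A (e' ▸ mul_mem (mem_sup_left hu) (mem_sup_right hz)) cc) (by tauto)
      have hz' : z = 1 ∨ z = y ∨ z = t ∨ z = y⁻¹ := by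
        obtain ⟨n, rfl⟩ := (mem_powers_iff_mem_zpowers.2 hz)
        have : y ^ n = y ^ (n % 4) := by rw [← d.ord, pow_mod_orderOf]
        simp only [this]
        have h4 : n % 4 < 4 := Nat.mod_lt _ (by norm_num)
        generalize n % 4 = r at h4
        interval_cases r
        · simp
        · simp
        · exact Or.inr (Or.inr (Or.inl (by rw [sq, ty])))
        · exact Or.inr (Or.inr (Or.inr (eq_inv_of_mul_eq_one_left (by rw [← pow_succ, y4]))))
      have us : Commute s u := mem_cent1.1 (a.cs hu)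
      have ut : Commute t u := mem_cent1.1 (d.Ut hu)
      have ts : Commute t s := mem_cent1.1 d.sH.2
      rcases hz' with rfl | rfl | rfl | rfl
      · refine Or.inr (Or.inl ?_)
        have : u = 1 := sq1 u hu (by
          calc u * u = u * u * (s * s) := by rw [d.ss, mul_one]
            _ = u * (u * s) * s := by group
            _ = c * c := by rw [← us.eq, e']; group
            _ = 1 := cc)
        rw [e', this]; simp
      · exact Or.inl (Or.inl ⟨u, hu, e'.symm⟩)
      · refine Or.inr (Or.inr ?_)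
        have : u = 1 := sq1 u hu (by
          have h1 : Commute (z * s) u := ut.mul_left us
          calc u * u = u * u * (z * z) * (s * s) := by rw [d.ss, d.tt]; simp
            _ = u * u * z * (z * s) * s := by group
            _ = u * u * z * (s * z) * s := by rw [ts.eq]
            _ = u * (u * (z * s)) * (z * s) := by group
            _ = c * c := by rw [← h1.eq, e']; group
            _ = 1 := cc)
        rw [e', this]; simp
      · exact Or.inl (Or.inr ⟨u, hu, e'.symm⟩)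
    have h3 : (U : Set X).ncard = 3 := a.cU
    refine (Set.ncard_le_ncard this (Set.toFinite _)).trans ((Set.ncard_union_le _ _).trans ?_)
    have h1 := Set.ncard_union_le ((fun u => u * y * s) '' (U : Set X))
      ((fun u => u * y⁻¹ * s) '' (U : Set X))
    have h2 := Set.ncard_image_le (f := fun u => u * y * s) (Set.toFinite (U : Set X))
    have h4 := Set.ncard_image_le (f := fun u => u * y⁻¹ * s) (Set.toFinite (U : Set X))
    have h5 : ({s, t * s} : Set X).ncard ≤ 2 := (Set.ncard_insert_le _ _).trans (by simp)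
    omega
  have h1 := count hev d.t1 d.tt (fun u u1 uu =>
    let ⟨g, _, e⟩ := d.conj u (mem_top u) u1 uu; isConj_iff.2 ⟨g, e⟩) hk
  have h2 := d.card_H
  rw [top_inf_eq, a.cU] at h2
  have h3 := (𝐂[t] : Subgroup X).card_mul_index
  have h4 := a.card
  rw [card_top] at h4
  rw [h2, h4] at h3
  omega

end En

theorem endStmt : EndStmt.{u} := fun X _ _ hs na hd n hT hx => by
  have ns : ¬ Group.IsSolvable X := L.not_isSolvable_of_isSimpleGroup na
  have kn : P15.Kn X := by
    by_cases h8 : 8 ∣ Nat.card X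
    exacts [P15.kn_of_dc X hs na (P15.dc_of_dih (hd h8)), Or.inl (P5.gw4 na h8)]
  have h4 : 4 ∣ Nat.card X := by
    rcases kn with ⟨K, t, s, b⟩ | ⟨U, y, t, s, a⟩
    · obtain ⟨m, hm⟩ := b.two_dvd
      refine Dvd.dvd.trans ⟨m, ?_⟩ (card_subgroup_dvd_card (𝐂[t] : Subgroup X))
      rw [b.card_N, hm]; ring
    · rw [← card_top, a.card]; norm_num
  have h2 : 2 ∣ n := by
    obtain ⟨T, h⟩ := exists_isSyl Nat.prime_two (⊤ : Subgroup X)
    have h1 := h.card_eq_pow_factorization Nat.prime_two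
    rw [hT T h, card_top] at h1
    have h3 : 2 ≤ (Nat.card X).factorization 2 :=
      (Nat.prime_two.pow_dvd_iff_le_factorization Nat.card_pos.ne').1 h4
    obtain ⟨m, hm⟩ := Nat.exists_eq_add_of_le h3
    rw [hm, pow_add] at h1
    exact ⟨2 ^ m, by omega⟩
  have hev : ∀ x : X, RO x → 2 ∣ 𝐨(𝐂[x]) := fun x h => h2.trans (hx x h)
  rcases kn with ⟨K, t, s, b⟩ | ⟨U, y, t, s, a⟩
  exacts [En.bsw ns hev b, En.a7 hev a]

end Cfsg.Agent.P30
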