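import Cfsg.Agent.P30.Iso
import Cfsg.Agent.P30.Bas
import Cfsg.Agent.P6.L12

/-! S3860: the configuration ★0. -/

set_option autoImplicit false
set_option linter.unusedSectionVars false

namespace Cfsg.Agent.P30

open Subgroup Cfsg Cfsg.Agent Cfsg.Agent.FT
open Cfsg.Agent.P21 (Two)
open scoped commutatorElement

universe u

namespace R6

variable {G : Type u} [Group G] [Finite G]

theorem mem_sup_zp {S : Subgroup G} {g b : G} (hg : g ∈ 𝐍(S)) (gg : g * g ∈ S)
    (hb : b ∈ S ⊔ zpowers g) : b ∈ S ∨ b * g ∈ S := by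
  have n1 : ∀ a ∈ S, g * a * g⁻¹ ∈ S := fun a ha => (mem_normalizer_iff.1 hg a).1 ha
  have n2 : ∀ a ∈ S, g⁻¹ * a * g ∈ S := fun a ha => by
    simpa using (mem_normalizer_iff.1 (inv_mem hg) a).1 ha
  let W : Subgroup G :=
    { carrier := {b | b ∈ S ∨ b * g ∈ S}
      one_mem' := Or.inl (one_mem S)
      mul_mem' := by
        rintro a b (ha | ha) (hb | hb)
        · exact Or.inl (mul_mem ha hb)
        · exact Or.inr (mul_assoc a b g ▸ mul_mem ha hb)
        · exact Or.inr (by simpa [mul_assoc] using mul_mem ha (n2 _ hb))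
        · exact Or.inl (by simpa [mul_assoc] using mul_mem (mul_mem ha (n2 _ hb)) (inv_mem gg))
      inv_mem' := by
        rintro a (ha | ha)
        · exact Or.inl (inv_mem ha)
        · exact Or.inr (by simpa [mul_assoc] using mul_mem (n1 _ (inv_mem ha)) gg) }
  exact (sup_le (fun a ha => Or.inl ha) (zpowers_le.2 (Or.inr gg)) : S ⊔ zpowers g ≤ W) hb

theorem card_le_two {H P : Subgroup G} (h : H.relIndex P ∣ 2) :
    𝐨(P) ≤ 2 * 𝐨((H ⊓ P : Subgroup G)) := by
  rw [← H1.card_inf_mul_relIndex H P, mul_comm]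
  exact Nat.mul_le_mul_right _ (Nat.le_of_dvd two_pos h)

theorem card_sup_le {S : Subgroup G} {g : G} (hg : g ∈ 𝐍(S)) (gg : g * g ∈ S) :
    𝐨((S ⊔ zpowers g : Subgroup G)) ≤ 2 * 𝐨(S) := by
  have := card_le_two (H := S) (P := S ⊔ zpowers g) (relIndex_dvd_two_iff.2
    ⟨g, mem_sup_right (mem_zpowers g), fun b hb => (mem_sup_zp hg gg hb).symm⟩)
  rwa [inf_of_le_left le_sup_left] at this

theorem two_le_card {S T : Subgroup G} (h : S < T) : 2 * 𝐨(S) ≤ 𝐨(T) := by
  obtain ⟨k, hk⟩ := Subgroup.card_dvd_of_le h.le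
  have h1 : 𝐨(S) < 𝐨(T) := lt_of_not_ge fun e => h.ne (eq_of_le_of_card_ge h.le e)
  have h2 : 0 < 𝐨(S) := Nat.card_pos
  rw [hk] at h1 ⊢
  rcases k with _ | _ | k <;> nlinarith

theorem exists_pow_sq {H : Subgroup G} {g : G} (t : Two g) (hg : g ∉ H) :
    ∃ j : ℕ, g ^ 2 ^ j ∉ H ∧ g ^ 2 ^ j * g ^ 2 ^ j ∈ H := by
  by_contra hn
  push Not at hn
  obtain ⟨k, hk⟩ := t
  have : ∀ j : ℕ, g ^ 2 ^ j ∉ H := fun j => by
    induction j with
    | zero => simpa using hg
    | succ j ih => rw [pow_succ, pow_mul, pow_two]; exact hn j ih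
  exact this k (hk ▸ one_mem H)

theorem conj_inv_of {a y θ : G} (hθ : θ ∈ center G) (e : a * y * a⁻¹ = θ * y) :
    a⁻¹ * y * a = θ⁻¹ * y := by
  have c := mem_center_iff.1 (inv_mem hθ) a⁻¹
  calc a⁻¹ * y * a = a⁻¹ * θ⁻¹ * (θ * y) * a := by group
    _ = _ := by rw [c, ← e]; group

theorem sq_one {a y θ : G} (hθ : θ ∈ center G) (sq : y * y ∈ center G)
    (e : a * y * a⁻¹ = θ * y) : θ * θ = 1 := by
  have h1 : a * (y * y) * a⁻¹ = y * y := by rw [mem_center_iff.1 sq a]; group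
  have h2 : a * (y * y) * a⁻¹ = θ * θ * (y * y) := by
    calc _ = (a * y * a⁻¹) * (a * y * a⁻¹) := by group
      _ = θ * (y * θ) * y := by rw [e]; group
      _ = _ := by rw [mem_center_iff.1 hθ y]; group
  exact mul_eq_right.1 (h2.symm.trans h1)

theorem conj_mul_c {a y θ : G} (hθ : θ ∈ center G) : a * (θ * y) * a⁻¹ = θ * (a * y * a⁻¹) := by
  rw [← mul_assoc a, mem_center_iff.1 hθ a]; group

/-- The elements that move `u` inside `{u, ζ u}`. -/
def W2 (u ζ : G) (hζ : ζ ∈ center G) (zz : ζ * ζ = 1) : Subgroup G where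
  carrier := {b | b * u * b⁻¹ = u ∨ b * u * b⁻¹ = ζ * u}
  one_mem' := Or.inl (by group)
  mul_mem' := by
    intro a b ha hb
    have e : a * b * u * (a * b)⁻¹ = a * (b * u * b⁻¹) * a⁻¹ := by group
    change _ = _ ∨ _ = _
    rw [e]
    rcases hb with hb | hb
    · rw [hb]; exact ha
    · rw [hb, conj_mul_c hζ]
      rcases ha with ha | ha
      · exact Or.inr (by rw [ha])
      · exact Or.inl (by rw [ha, ← mul_assoc, zz, one_mul])
  inv_mem' := by
    rintro a (ha | ha)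
    · left
      simpa using conj_inv_of (one_mem _) (ha.trans (one_mul u).symm)
    · right
      rw [inv_inv, conj_inv_of hζ ha, inv_eq_of_mul_eq_one_right zz]

theorem card_le_W2 {u ζ : G} {hζ : ζ ∈ center G} {zz : ζ * ζ = 1} {P : Subgroup G}
    (h : P ≤ W2 u ζ hζ zz) : 𝐨(P) ≤ 2 * 𝐨((𝐂[u] ⊓ P : Subgroup G)) := by
  refine card_le_two (relIndex_dvd_two_iff.2 ?_)
  by_cases c : P ≤ 𝐂[u]
  · exact ⟨1, one_mem P, fun b hb => Or.inr (c hb)⟩
  obtain ⟨a, ha, na⟩ := SetLike.not_le_iff_exists.1 c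
  have e := (h ha).resolve_left fun e => na (mem_cent1_iff_conj.2 e)
  refine ⟨a, ha, fun b hb => (h hb).symm.imp (fun e2 => mem_cent1_iff_conj.2 ?_)
    mem_cent1_iff_conj.2⟩
  calc _ = b * (a * u * a⁻¹) * b⁻¹ := by group
    _ = _ := by rw [e, conj_mul_c hζ, e2, ← mul_assoc, zz, one_mul]

/-- ★0. -/
theorem star0 {s : ℕ} (h : Hp G s) (h4 : 4 * s ∣ Nat.card G) {x τ y : G} {S : Subgroup G}
    (c : Cf s x S τ) (hy : y ∈ S) (hc : S ≤ 𝐂[y]) (sq : y * y ∈ center G)
    (hζ : ⁅τ, y⁆ ∈ center G) (ne : τ * y ≠ y * τ) : False := by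
  have eτ : τ * y * τ⁻¹ = ⁅τ, y⁆ * y := by rw [commutatorElement_def]; group
  have z1 : ⁅τ, y⁆ ≠ 1 := fun e => ne (commutatorElement_eq_one_iff_mul_comm.1 e)
  generalize ⁅τ, y⁆ = ζ at hζ eτ z1
  have zz := sq_one hζ sq eτ
  set T := S ⊔ zpowers τ with hT
  have T2 : IsPGroup 2 T := two_sup c.syl.pgrp c.nrm c.sq
  have τT : τ ∈ T := mem_sup_right (mem_zpowers τ)
  have TW : T ≤ W2 y ζ hζ zz :=
    sup_le (fun b hb => Or.inl (mem_cent1_iff_conj.1 (hc hb))) (zpowers_le.2 (Or.inr eτ))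
  have back : ∀ b ∈ T, b * y * b⁻¹ = y → b ∈ S := fun b hb e =>
    (mem_sup_zp c.nrm c.sq hb).resolve_right fun m => z1 (by
      have := mem_cent1_iff_conj.1 (hc m)
      rw [show b * τ * y * (b * τ)⁻¹ = b * (τ * y * τ⁻¹) * b⁻¹ by group, eτ, conj_mul_c hζ, e]
        at this
      exact mul_eq_right.1 this)
  have ST : S < T := lt_of_le_of_ne le_sup_left fun e =>
    ne (mem_cent1.1 (hc (e.ge τT))).symm
  have nS : ¬ IsSyl 2 T ⊤ := fun hS => by
    obtain ⟨k, hk⟩ := c.syl.pgrp.exists_card_eq (p := 2)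
    have h1 := card_sup_le c.nrm c.sq
    rw [hS.card_eq_pow_factorization Nat.prime_two, card_top, c.card] at h1
    rw [c.card] at hk
    rw [hk, show 4 * 2 ^ k = 2 ^ (k + 2) by ring,
      Nat.prime_two.pow_dvd_iff_le_factorization Nat.card_pos.ne'] at h4
    rw [hk, ← pow_succ', Nat.pow_le_pow_iff_right one_lt_two] at h1
    omega
  obtain ⟨Y, lt, -, YN, Y2⟩ := P6.exists_gt_of_not_isSyl Nat.prime_two T2 le_top nS
  obtain ⟨g0, g0Y, g0T⟩ := SetLike.exists_of_lt lt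
  obtain ⟨j, gT, gg⟩ := exists_pow_sq (P21.Two.of_mem Y2 g0Y) g0T
  have gN : g0 ^ 2 ^ j ∈ 𝐍(T) := pow_mem (YN g0Y) _
  generalize g0 ^ 2 ^ j = g at gT gg gN
  have n1 : ∀ a ∈ T, g * a * g⁻¹ ∈ T := fun a ha => (mem_normalizer_iff.1 gN a).1 ha
  have n2 : ∀ a ∈ T, g⁻¹ * a * g ∈ T := fun a ha => by
    simpa using (mem_normalizer_iff.1 (inv_mem gN) a).1 ha
  by_cases hη : ⁅g, y⁆ ∈ center G
  · have eg : g * y * g⁻¹ = ⁅g, y⁆ * y := by rw [commutatorElement_def]; group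
    generalize ⁅g, y⁆ = η at hη eg
    have ee := sq_one hη sq eg
    have gS : g ∈ 𝐍(S) := mem_normalizer_fintype fun b hb => back _ (n1 b (ST.le hb)) (by
      calc _ = g * (b * (g⁻¹ * y * g) * b⁻¹) * g⁻¹ := by group
        _ = _ := by
          rw [conj_inv_of hη eg, conj_mul_c (inv_mem hη), mem_cent1_iff_conj.1 (hc hb),
            ← conj_inv_of hη eg]; group)
    have g2 : g * g ∈ S := back _ gg (by
      calc _ = g * (g * y * g⁻¹) * g⁻¹ := by group
        _ = _ := by rw [eg, conj_mul_c hη, eg, ← mul_assoc, ee, one_mul])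
    have cm : ⁅τ, g⁆ ∈ S := back _ (by
      rw [commutatorElement_def, mul_assoc, mul_assoc, ← mul_assoc g]
      exact mul_mem τT (n1 _ (inv_mem τT))) (by
      calc _ = τ * (g * (τ⁻¹ * (g⁻¹ * y * g) * τ⁻¹⁻¹) * g⁻¹) * τ⁻¹ := by
            rw [commutatorElement_def]; group
        _ = _ := by
          rw [conj_inv_of hη eg, conj_mul_c (inv_mem hη), inv_inv, conj_inv_of hζ eτ,
            conj_mul_c (inv_mem hη), conj_mul_c (inv_mem hζ), eg, conj_mul_c (inv_mem hη),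
            conj_mul_c (inv_mem hζ), conj_mul_c hη, eτ, ← mul_assoc ζ⁻¹,
            mem_center_iff.1 hη ζ⁻¹]
          group)
    rcases ui h c gS g2 cm with e | e
    · exact gT (ST.le e)
    · exact gT (by simpa using mul_mem (ST.le e) (inv_mem τT))
  · have y'W : T ≤ W2 (g * y * g⁻¹) ζ hζ zz := fun b hb => by
      have e : b * (g * y * g⁻¹) * b⁻¹ = g * ((g⁻¹ * b * g) * y * (g⁻¹ * b * g)⁻¹) * g⁻¹ := by
        group
      exact (TW (n2 b hb)).imp (fun e2 => by rw [e, e2]) fun e2 => by rw [e, e2, conj_mul_c hζ]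
    have zi : ζ⁻¹ = ζ := inv_eq_of_mul_eq_one_right zz
    have cz := mem_center_iff.1 hζ
    have uW : T ≤ W2 ⁅g, y⁆ ζ hζ zz := fun b hb => by
      have e : b * ⁅g, y⁆ * b⁻¹ = b * (g * y * g⁻¹) * b⁻¹ * (b * y * b⁻¹)⁻¹ := by
        rw [commutatorElement_def]; group
      change _ = _ ∨ _ = _
      rw [e, commutatorElement_def]
      rcases y'W hb with e1 | e1 <;> rcases TW hb with e2 | e2 <;> rw [e1, e2]
      · exact Or.inl rfl
      · right; rw [mul_inv_rev, zi, ← mul_assoc, cz]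
      · right; group
      · left; rw [mul_inv_rev, zi, ← mul_assoc, cz, ← mul_assoc, ← mul_assoc, zz, one_mul]
    have ysq : g * y * g⁻¹ * (g * y * g⁻¹) = y * y := by
      calc _ = g * (y * y) * g⁻¹ := by group
        _ = _ := by rw [mem_center_iff.1 sq g]; group
    have re : y⁻¹ * ⁅g, y⁆ * y⁻¹⁻¹ = ⁅g, y⁆⁻¹ := by
      rw [commutatorElement_def]
      generalize g * y * g⁻¹ = v at ysq
      calc _ = y⁻¹ * (v * v) * v⁻¹ := by group
        _ = _ := by rw [ysq]; group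
    have gW : g ∈ W2 ⁅g, y⁆ ζ hζ zz := by
      have e : g * ⁅g, y⁆ * g⁻¹ = (g * g) * y * (g * g)⁻¹ * y⁻¹ * ⁅g, y⁆⁻¹ := by
        rw [commutatorElement_def]; group
      change _ = _ ∨ _ = _
      rw [e, ← re]
      rcases TW gg with e1 | e1 <;> rcases uW (inv_mem (ST.le hy)) with e2 | e2 <;> rw [e1, e2]
      · left; group
      · right; group
      · right; group
      · left; rw [mul_inv_cancel_right, ← mul_assoc, zz, one_mul]
    have h1 := card_le_W2 (sup_le uW (zpowers_le.2 gW))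
    have h2 := le h (isConj_iff.2 ⟨_, re⟩) hη ((two_sup T2 gN gg).to_le inf_le_right)
      (inf_le_left (b := T ⊔ zpowers g))
    have h3 := two_le_card ST
    have h4 := two_le_card (lt_of_le_of_ne (le_sup_left (a := T) (b := zpowers g)) fun e =>
      gT (e.ge (mem_sup_right (mem_zpowers g))))
    have h5 : 0 < 𝐨(S) := Nat.card_pos
    rw [c.card] at h3 h5
    omega

end R6

variable {G : Type u} [Group G] [Finite G]

/-- (a): a 2-element commuting with `x` and inverted together with `x` is central. -/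
theorem Hp.a_ {s : ℕ} (h : Hp G s) (h4 : 4 * s ∣ Nat.card G) {x y g : G} (h2 : Two y) (h1 : x ≠ 1)
    (ho : Odd (orderOf x)) (c : Commute x y) (ix : g * x * g⁻¹ = x⁻¹) (iy : g * y * g⁻¹ = y⁻¹) :
    y ∈ center G := by
  by_contra hz
  obtain ⟨S, m, -, cf, yS, l, e⟩ := h.sim h2 hz h1 ho c ix iy
  obtain ⟨j, nz, sq⟩ := R6.exists_pow_sq h2 hz
  have e2 := inv_pow' e (2 ^ j)
  have l2 := l.trans (cent1_le_cent1_pow y (2 ^ j))
  refine R6.star0 h h4 cf (pow_mem yS (2 ^ j)) l2 sq ?_ fun k => nz ?_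
  · rw [commutatorElement_def, e2, ← mul_inv_rev]
    exact inv_mem sq
  · exact h.le' (real_of e2) cf.card l2 cf.two cf.nrm (mem_cent1.2 k.symm)
      fun m => cf.not_cent (cf.syl.le m)

end Cfsg.Agent.P30
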