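import Cfsg.Agent.P30.CoreW
import Cfsg.Agent.P30.Star
import Cfsg.Agent.H6.HalfClass2

/-! S3860: an involution of `G / Z` outside `O₂`. -/

set_option autoImplicit false
set_option linter.unusedSectionVars false

namespace Cfsg.Agent.P30.R6

open Subgroup Cfsg Cfsg.Agent Cfsg.Agent.FT
open Cfsg.Agent.P21 (Two)
open scoped commutatorElement

universe u

theorem ex_good {K : Type u} [Group K] [Finite K] (hO : pPrimeCore 2 K = ⊥)
    (hQ : pCore 2 K ≤ center K) {x : K} (hx : x ∉ center K) :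
    ∃ t y : K, y ∉ center K ∧ y * y ∈ center K ∧ t * y * t⁻¹ = y⁻¹ := by
  haveI : Fact (Nat.Prime 2) := ⟨Nat.prime_two⟩
  set π := QuotientGroup.mk' (center K) with hπ
  have k : ∀ g : K, π g = 1 ↔ g ∈ center K := fun g => QuotientGroup.eq_one_iff g
  have hL := H6.Half.core_quot hO
  have ev : 2 ∣ Nat.card (K ⧸ center K) := by
    by_contra e
    have := L.le_pPrimeCore (p := 2) (N := (⊤ : Subgroup (K ⧸ center K))) inferInstance (by
      rw [card_top]; exact ((Nat.prime_two.coprime_iff_not_dvd).2 e).symm)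
    exact hx ((k x).1 (mem_bot.1 (hL.le (this (mem_top _)))))
  obtain ⟨i, hi⟩ := exists_prime_orderOf_dvd_card' 2 ev
  obtain ⟨t, rfl⟩ := QuotientGroup.mk'_surjective _ i
  have tt : π t * π t = 1 := by rw [← pow_two, ← hi, pow_orderOf_eq_one]
  by_contra hn
  have hz := P1.zstar hi fun g hg => by
    obtain ⟨w, rfl⟩ := QuotientGroup.mk'_surjective _ g
    by_contra ne
    refine hn ⟨t, t⁻¹ * (w * t * w⁻¹), fun e => ne ?_, (k _).1 ?_,
      k0 (mem_center_iff.1 ((k _).1 ((map_mul π t t).trans tt)) w).symm⟩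
    · have := (k _).2 e
      rw [map_mul, map_mul, map_mul, map_inv, map_inv, inv_mul_eq_one] at this
      exact this.symm
    · simp only [map_mul, map_inv]
      rw [← pow_two, hg.inv_left.mul_pow, conj_pow, inv_pow, pow_two, tt]
      group
  have c : π t ∈ center (K ⧸ center K) := mem_center_iff.2 fun g =>
    (commutatorElement_eq_one_iff_mul_comm.1 (mem_bot.1 (hL.le (hz g)))).symm
  have m : π t ∈ pCore 2 (K ⧸ center K) := L.le_pCore (N := zpowers (π t)) ⟨fun a ha g => by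
    rwa [mem_center_iff.1 (zpowers_le.2 c ha) g, mul_inv_cancel_right]⟩
    (P21.Two.of_sq tt).zp (mem_zpowers _)
  have := (k t).2 (hQ (CW.mem_pCore (H6.Half.isPGroup_center hO) m))
  rw [this, orderOf_one] at hi
  omega

theorem exStmt : ExStmt.{u} := fun G _ _ s h => by
  obtain ⟨x, hx⟩ := h.ex
  set Q := pCore 2 G with hQ
  have nQ : Q.Normal := inferInstance
  have nK : 𝐂(Q).Normal := inferInstance
  have xK : x ∈ 𝐂(Q) := mem_cent_iff_cent1.2 (h.core_cent hx)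
  have h2 : pCoreOf 2 𝐂(Q) ≤ Q := L.le_pCore (normal_iff_top_le.2
    ((normal_iff_top_le.1 nK).trans (H2.normalizer_le_normalizer_pCoreOf 2 _)))
    (H2.isPGroup_pCoreOf 2 _)
  have h3 : H2.pPrimeCoreOf 2 𝐂(Q) ≤ ⊥ := (L.le_pPrimeCore (normal_iff_top_le.2
    ((normal_iff_top_le.1 nK).trans (H2.normalizer_le_normalizer_pPrimeCoreOf 2 _)))
    (H2.coprime_card_pPrimeCoreOf 2 _)).trans h.od.le
  have hO : pPrimeCore 2 𝐂(Q) = ⊥ :=
    (map_eq_bot_iff_of_injective _ (subtype_injective _)).1 (le_bot_iff.1 h3)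
  have zc : ∀ y : 𝐂(Q), (y : G) ∈ Q → y ∈ center 𝐂(Q) := fun y hy =>
    mem_center_iff.2 fun g => Subtype.ext (mem_cent.1 g.2 _ hy).symm
  have hc : pCore 2 𝐂(Q) ≤ center 𝐂(Q) := fun y hy => zc y (h2 ⟨y, hy, rfl⟩)
  obtain ⟨t, y, ny, sq, e⟩ := ex_good hO hc (x := ⟨x, xK⟩) fun z => hx.1 (by
    obtain ⟨k, hk⟩ := H6.Half.isPGroup_center hO ⟨_, z⟩
    exact eq_one_of_two ⟨k, congrArg (fun a => a.1.1) hk⟩ hx.2.1)
  refine ⟨y, fun m => ny (zc y m), by_contra fun nz => ny (hc ?_)⟩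
  have KC : 𝐂(Q) ≤ 𝐂[(y : G) * y] := fun g hg =>
    mem_cent1.2 (congrArg Subtype.val (mem_center_iff.1 sq ⟨g, hg⟩)).symm
  have e' : (t : G) * y * (t : G)⁻¹ = (y : G)⁻¹ := congrArg Subtype.val e
  have y4 : (y : G) * y * (y * y) = 1 := by
    have := inv_pow' e' 2
    rw [pow_two, mem_cent1_iff_conj.1 (KC t.2)] at this
    exact mul_eq_one_iff_eq_inv.2 this
  have cl := h.closedB y4 nz
  have n := pCoreOf_normal 2 𝐂[(y : G) * y]
  have m1 : (y : G) ∈ pCoreOf 2 𝐂[(y : G) * y] := cl.le_of_normal Nat.prime_two n.2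
    (two_of_sq (P21.Two.of_sq y4)).zp (zpowers_le.2 (KC y.2)) (mem_zpowers _)
  obtain ⟨y', hy', e2⟩ := le_pCoreOf (inf_normal n KC)
    ((H2.isPGroup_pCoreOf 2 _).to_le inf_le_left) ⟨m1, y.2⟩
  exact (Subtype.ext e2 : y' = y) ▸ hy'

end Cfsg.Agent.P30.R6
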