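/-
P30: fact F1 from the statement `St0`.
-/
import Cfsg.Agent.P30.Bas

set_option autoImplicit false
set_option linter.unusedSectionVars false

namespace Cfsg.Agent.P30.FA

open Subgroup Cfsg Cfsg.Agent Cfsg.Agent.FT
open Cfsg.Agent.P21 (Two)
open scoped commutatorElement

universe u

variable {G : Type u} [Group G] [Finite G] {s : ℕ} {x y g t τ : G} {S P Q : Subgroup G}

/-- The statement ★0. -/
def St0 (G : Type u) [Group G] (s : ℕ) : Prop := ∀ (x τ y : G) (S : Subgroup G), Cf s x S τ →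
  y ∈ S → S ≤ 𝐂[y] → y * y ∈ center G → τ * y * τ⁻¹ * y⁻¹ ∈ center G → τ * y = y * τ

theorem exists_pow (h2 : Two y) (hz : y ∉ center G) :
    ∃ n : ℕ, y ^ n ∉ center G ∧ y ^ n * y ^ n ∈ center G := by
  obtain ⟨k, e⟩ := h2
  induction k generalizing y with
  | zero => exact absurd (by rw [pow_zero, pow_one] at e; rw [e]; exact one_mem _) hz
  | succ k ih =>
    by_cases a : y ^ 2 ∈ center G
    · exact ⟨1, by rwa [pow_one], by rwa [pow_one, ← pow_two]⟩
    obtain ⟨n, b⟩ := ih a (by rw [← pow_mul, ← pow_succ', e])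
    exact ⟨2 * n, by rwa [pow_mul]⟩

theorem St0.false (st : St0 G s) (h : Hp G s) (c : Cf s x S τ) (hy : y ∈ S) (l : S ≤ 𝐂[y])
    (r : IsConj y y⁻¹) (yy : y * y ∈ center G) (e : τ * y * τ⁻¹ * y⁻¹ ∈ center G) :
    y ∈ center G :=
  h.le' r c.card l c.two c.nrm (mem_cent1.2 (st x τ y S c hy l yy e).symm) c.not_mem

/-- (a) -/
theorem St0.a (st : St0 G s) (h : Hp G s) (h2 : Two y) (h1 : x ≠ 1) (ho : Odd (orderOf x))
    (c : x ∈ 𝐂[y]) (ix : g * x * g⁻¹ = x⁻¹) (iy : g * y * g⁻¹ = y⁻¹) : y ∈ center G := by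
  by_contra hz
  obtain ⟨S, m, -, cf, a, l, j⟩ := h.sim h2 hz h1 ho (mem_cent1_iff_commute.1 c).symm ix iy
  obtain ⟨n, b1, b2⟩ := exists_pow h2 hz
  have j' := inv_pow' j n
  exact b1 (st.false h cf (pow_mem a n) (l.trans (cent1_le_cent1_pow y n)) (real_of j') b2
    (by rw [j', ← mul_inv_rev]; exact inv_mem b2))

/-- P0: the centralizer of a noncentral very real 2-element is 2-closed. -/
theorem St0.p0 (st : St0 G s) (h : Hp G s) (h2 : Two y) (v : VR y) (hz : y ∉ center G) :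
    IsSyl 2 (pCoreOf 2 𝐂[y]) 𝐂[y] := by
  have := Fact.mk Nat.prime_two
  obtain ⟨t, tt, it⟩ := v
  have tn := norm_cent_of_inv it
  have n : 𝐂[y] ⊔ zpowers t ≤ 𝐍(𝐂[y]) := sup_le (le_norm_self _) (zpowers_le.2 tn)
  have tD : t ∈ 𝐂[y] ⊔ zpowers t := mem_sup_right (mem_zpowers t)
  have tQ : t ∈ pCoreOf 2 (𝐂[y] ⊔ zpowers t) := by
    refine ⟨⟨t, tD⟩, L.baer_suzuki fun w => ?_, rfl⟩
    have i := k0 (t := t) (w := w) (mem_center_iff.1 tt _).symm
    have m : t⁻¹ * (w * t * (w : G)⁻¹) ∈ 𝐂[y] := by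
      obtain ⟨c, hc, _, ⟨k, rfl⟩, e⟩ := (mem_sup_of_norm (zpowers_le.2 tn)).1 w.2
      have : t⁻¹ * (w * t * (w : G)⁻¹) = t⁻¹ * c * t⁻¹⁻¹ * c⁻¹ := by rw [← e]; group
      rw [this]
      exact mul_mem ((mem_normalizer_iff.1 (inv_mem tn) c).1 hc) (inv_mem hc)
    have u2 : Two (t⁻¹ * (w * t * (w : G)⁻¹)) := by
      obtain ⟨k, -, -, -, o⟩ := exists_parts (t⁻¹ * (w * t * (w : G)⁻¹))
      exact ⟨k, by_contra fun e => hz (st.a h h2 e o (pow_mem m _) (inv_pow' i _) it)⟩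
    refine ((isPGroup_sup (h.two_of_sq_center tt).zp u2.zp (zpowers_le.2 (mem_norm_of_conj_le
      (by rw [← zpowers_conj, i, zpowers_inv])))).comap_subtype).to_le ((closure_le _).2 ?_)
    rintro _ (rfl | rfl)
    · exact mem_sup_left (mem_zpowers t)
    · have := mul_mem (mem_sup_left (T := zpowers (t⁻¹ * (w * t * (w : G)⁻¹))) (mem_zpowers t))
        (mem_sup_right (mem_zpowers _))
      rw [mul_inv_cancel_left] at this
      exact this
  refine closed fun x hx g hg ho e => by_contra fun h1 => hz ?_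
  have qn := pCoreOf_normal 2 (𝐂[y] ⊔ zpowers t)
  have qp := H2.isPGroup_pCoreOf 2 (𝐂[y] ⊔ zpowers t)
  generalize pCoreOf 2 (𝐂[y] ⊔ zpowers t) = Q at tQ qn qp
  obtain ⟨k, ek⟩ := exists_card_eq_pow Nat.prime_two qp
  have a := H1.commutator_sup_centralizer (A := zpowers x) (G := Q)
    (zpowers_le.2 (qn.2 (mem_sup_left hx)))
    (by rw [ek, Nat.card_zpowers]; exact (Nat.coprime_two_right.2 ho).pow_right k)
    (Or.inr (isSolvable_of_isNilpotent (isNilpotent_of_isPGroup Nat.prime_two qp)))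
  have b : ⁅Q, zpowers x⁆ ≤ 𝐂[y] := (commutator_mono le_rfl (zpowers_le.2 hx)).trans
    (comm_le_right_iff.2 (qn.1.trans n))
  obtain ⟨c, hc, t', ht', e'⟩ := (mem_sup_of_norm (inf_le_left.trans (qn.1.trans n))).1
    ((a.ge.trans (sup_le_sup_right b _)) tQ)
  have cx : t' * x * t'⁻¹ = x := mem_cent1_iff_conj.1 (by rw [← cent_zpowers]; exact ht'.2)
  refine st.a h h2 h1 ho hx (g := g * t') ?_ ?_
  · calc _ = g * (t' * x * t'⁻¹) * g⁻¹ := by group
      _ = _ := by rw [cx, e]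
  · have d := mem_cent1_iff_conj.1 (mul_mem hg (inv_mem hc))
    calc _ = g * c⁻¹ * (t * y * t⁻¹) * (g * c⁻¹)⁻¹ := by rw [← e']; group
      _ = (g * c⁻¹ * y * (g * c⁻¹)⁻¹)⁻¹ := by rw [it]; group
      _ = _ := by rw [d]

theorem vr_pow (v : VR y) (n : ℕ) : VR (y ^ n) := v.imp fun _ e => ⟨e.1, inv_pow' e.2 n⟩

theorem vr_conj (v : VR y) (g : G) : VR (g * y * g⁻¹) := by
  obtain ⟨t, tt, it⟩ := v
  refine ⟨g * t * g⁻¹, ?_, ?_⟩
  · rw [conj_mul, mem_center_iff.1 tt g, mul_inv_cancel_right]; exact tt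
  · calc _ = g * (t * y * t⁻¹) * g⁻¹ := by group
      _ = _ := by rw [it]; group

theorem descent (hP : IsPGroup 2 P) (S : Subgroup G) : S ≤ P → P ≤ 𝐍(S) → ∀ y ∈ S, VR y →
    y ∉ center G → ∃ y ∈ S, VR y ∧ y ∉ center G ∧ y * y ∈ center G ∧
      ∀ g ∈ P, y⁻¹ * (g * y * g⁻¹) ∈ center G := by
  induction S using WellFoundedLT.induction with | ind S ih => ?_
  intro l n y hy v hz
  obtain ⟨k, b1, b2⟩ := exists_pow (Two.of_mem hP (l hy)) hz
  by_cases a : ∀ g ∈ P, (y ^ k)⁻¹ * (g * y ^ k * g⁻¹) ∈ center G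
  · exact ⟨_, pow_mem hy k, vr_pow v k, b1, b2, a⟩
  push Not at a
  obtain ⟨g, hg, a⟩ := a
  have := isNilpotent_of_isPGroup Nat.prime_two hP
  have lt := L.commutator_lt_of_isNilpotent l n fun e => hz (by
    rw [e] at hy; rw [mem_bot.1 hy]; exact one_mem _)
  obtain ⟨z, hz, r⟩ := ih _ lt (lt.le.trans l) (comm_le_left_iff.1 (commutator_mono lt.le le_rfl))
    _ (by
      have := commutator_mem_commutator (inv_mem (pow_mem hy k)) hg
      rwa [commutatorElement_def, inv_inv, mul_assoc, mul_assoc, ← mul_assoc g] at this)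
    ⟨_, b2, k0 (mem_center_iff.1 b2 g).symm⟩ a
  exact ⟨z, lt.le hz, r⟩

theorem St0.f1 (st : St0 G s) (h : Hp G s) : F1 G := fun y x h2 v hx c => by
  by_contra hz
  obtain ⟨S, τ, cf⟩ := h.cf_of_ro hx
  obtain ⟨g, -, l⟩ := cf.syl.exists_conj_le Nat.prime_two h2.zp
    (zpowers_le.2 (mem_cent1_iff_commute.2 c))
  obtain ⟨z, zS, vz, nz, zz, a⟩ := descent (P := zpowers τ ⊔ S)
    (isPGroup_sup cf.two.zp cf.pgrp (zpowers_le.2 cf.nrm)) S le_sup_right
    (sup_le (zpowers_le.2 cf.nrm) (le_norm_self S)) _ (l (conj_mem_conj (mem_zpowers y) g))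
    (vr_conj v g) fun e => hz (by
      have := (inferInstance : (center G).Normal).conj_mem _ e g⁻¹
      rwa [show g⁻¹ * (g * y * g⁻¹) * g⁻¹⁻¹ = y by group] at this)
  have r : IsConj z z⁻¹ := vz.elim fun _ e => real_of e.2
  have sy := st.p0 h (Two.of_mem cf.pgrp zS) vz nz
  have n : zpowers τ ⊔ S ≤ 𝐍(pCoreOf 2 𝐂[z]) := fun g hg =>
    H2.normalizer_le_normalizer_pCoreOf 2 _ (mem_norm_of_conj_le (by
      rw [← cent1_conj]
      intro w hw
      have e1 := mem_cent1.1 hw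
      have e2 := mem_center_iff.1 (a g hg) w
      rw [← mul_inv_cancel_left z (g * z * g⁻¹), mul_assoc, ← e2, ← mul_assoc, ← mul_assoc w] at e1
      exact mem_cent1.2 (mul_right_cancel e1)))
  have q := cf.syl.le_of_le_norm Nat.prime_two sy.pgrp (cf.cent h sy.pgrp
    ((pCoreOf_normal 2 _).2 (mem_cent1_comm.1 (cf.syl.le zS))) (le_sup_right.trans n)
    (n (mem_sup_left (mem_zpowers τ)))) (le_sup_right.trans n)
  have e := eq_of_le_of_card_ge q (cf.card.trans (h.card_eq r nz sy).symm).le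
  refine nz (st.false h cf zS (e.ge.trans sy.le) r zz ?_)
  have := (inferInstance : (center G).Normal).conj_mem _ (a τ (mem_sup_left (mem_zpowers τ))) z
  rwa [mul_inv_cancel_left] at this

end Cfsg.Agent.P30.FA
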