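import Cfsg.Agent.P30.Star
import Cfsg.Agent.P30.F1a

/-! S3860: fact F1. -/

set_option autoImplicit false

namespace Cfsg.Agent.P30

universe u

theorem f1Stmt : F1Stmt.{u} := fun _ _ _ _ h h4 =>
  FA.St0.f1 (fun _ _ _ _ c hy hc sq hz => by_contra fun ne => R6.star0 h h4 c hy hc sq hz ne) h

end Cfsg.Agent.P30
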