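import Cfsg.Agent.P30.Defs
import Cfsg.Agent.P1.ZStar
import Cfsg.Agent.P21.Q

/-! S3860: the isolation lemma, the unique involution of `N(S)/S`. -/

set_option autoImplicit false
set_option linter.unusedSectionVars false

namespace Cfsg.Agent.P30.R6

open Subgroup Cfsg Cfsg.Agent Cfsg.Agent.FT
open Cfsg.Agent.P21 (Two)
open scoped commutatorElement

universe u

variable {G : Type u} [Group G] [Finite G]

theorem odd_mem {O : Subgroup G} (hO : 𝐨(O).Coprime 2) {x : G} (hx : x ∈ O) : Odd (orderOf x) :=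
  (Nat.coprime_two_right.1 hO).of_dvd_nat (O.orderOf_dvd_natCard hx)

theorem exists_sqrt {x : G} (hx : Odd (orderOf x)) : ∃ n : ℕ, x ^ n * x ^ n = x := by
  obtain ⟨k, hk⟩ := hx
  exact ⟨k + 1, by
    rw [← pow_add, show k + 1 + (k + 1) = orderOf x + 1 by omega, pow_succ, pow_orderOf_eq_one,
      one_mul]⟩

theorem exists_sq_pow {x : G} (hx : Odd (orderOf x)) : ∃ n : ℕ, (x * x) ^ n = x := by
  obtain ⟨n, hn⟩ := exists_sqrt hx
  exact ⟨n, by rw [(Commute.refl x).mul_pow, hn]⟩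

theorem ne_inv {x : G} (hx : Odd (orderOf x)) (h1 : x ≠ 1) : x ≠ x⁻¹ := fun e => by
  obtain ⟨n, hn⟩ := exists_sq_pow hx
  rw [eq_inv_iff_mul_eq_one.1 e, one_pow] at hn
  exact h1 hn.symm

theorem iso0 (C : Subgroup G) [hC : C.Normal] {r s x : G} (rr : r * r = 1) (ss : s * s = 1)
    (rs : r * s = s * r) (hx : x ∈ C) (ho : Odd (orderOf x)) (h1 : x ≠ 1)
    (hi : r * x * r⁻¹ = x⁻¹) :
    (∃ w ∈ C, Commute r (w * r * w⁻¹) ∧ w * r * w⁻¹ ≠ r) ∨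
      ∃ y ∈ C, y ≠ 1 ∧ Odd (orderOf y) ∧ r * y * r⁻¹ = y⁻¹ ∧
        (s * y * s⁻¹ = y ∨ s * r * y * (s * r)⁻¹ = y) := by
  refine or_iff_not_imp_left.2 fun hn => ?_
  push Not at hn
  have r1 : r ≠ 1 := fun e => ne_inv ho h1 (by rw [← hi, e]; group)
  set Y := C ⊔ zpowers r with hY
  have rY : r ∈ Y := mem_sup_right (mem_zpowers r)
  have hz := P1.zstar (G := Y) (t := ⟨r, rY⟩)
    (orderOf_eq_prime (Subtype.ext ((pow_two r).trans rr)) fun e => r1 (congrArg Subtype.val e))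
    (fun g hg => by
      obtain ⟨w, hw, k, ⟨n, rfl⟩, e⟩ := mem_sup_of_normal_left.1 g.2
      have e2 : (g : G) * r * (g : G)⁻¹ = w * r * w⁻¹ := by rw [← e]; group
      refine Subtype.ext (e2.trans (hn w hw ?_))
      rw [← e2]
      exact congrArg Subtype.val hg) ⟨x, mem_sup_left hx⟩
  have m1 : ⁅r, x⁆ ∈ H2.pPrimeCoreOf 2 Y := ⟨_, hz, rfl⟩
  rw [commutatorElement_def, hi] at m1
  set O := H2.pPrimeCoreOf 2 C with hO
  have cO : 𝐨(O).Coprime 2 := H2.coprime_card_pPrimeCoreOf 2 C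
  have OC : O ≤ C := H2.pPrimeCoreOf_le 2 C
  have xO : x ∈ O := by
    refine le_pPrimeCoreOf (N := H2.pPrimeCoreOf 2 Y ⊓ C)
      (inf_normal (pPrimeCoreOf_normal 2 Y) le_sup_left) ((H2.coprime_card_pPrimeCoreOf 2 Y
        ).coprime_dvd_left (Subgroup.card_dvd_of_le inf_le_left)) ⟨?_, hx⟩
    obtain ⟨n, hn⟩ := exists_sq_pow ho
    rw [← hn]
    exact pow_mem (by simpa using inv_mem m1) n
  have sN : s ∈ 𝐍(O) := H2.normalizer_le_normalizer_pPrimeCoreOf 2 C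
    (normal_iff_top_le.1 hC (mem_top s))
  have cm : x⁻¹ * (s * x * s⁻¹) ∈ O := mul_mem (inv_mem xO) ((mem_normalizer_iff.1 sN x).1 xO)
  obtain ⟨n, hn⟩ := exists_sqrt (odd_mem cO cm)
  have si : s⁻¹ = s := inv_eq_of_mul_eq_one_right ss
  have e1 : s * (x⁻¹ * (s * x * s⁻¹)) * s⁻¹ = (x⁻¹ * (s * x * s⁻¹))⁻¹ := by
    calc _ = s * x⁻¹ * (s * x * (s * s)⁻¹) := by group
      _ = _ := by rw [ss]; nth_rw 2 [← si]; group
  have e2 : r * (x⁻¹ * (s * x * s⁻¹)) * r⁻¹ = x * (x⁻¹ * (s * x * s⁻¹))⁻¹ * x⁻¹ := by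
    calc _ = (r * x * r⁻¹)⁻¹ * ((r * s) * x * (r * s)⁻¹) := by group
      _ = (r * x * r⁻¹)⁻¹ * (s * (r * x * r⁻¹) * s⁻¹) := by rw [rs]; group
      _ = _ := by rw [hi]; group
  generalize hc : x⁻¹ * (s * x * s⁻¹) = c at cm hn e1 e2
  have e3 : s * x * s⁻¹ = x * c := by rw [← hc]; group
  have d1 : s * c ^ n * s⁻¹ = (c ^ n)⁻¹ := by rw [← conj_pow, e1, inv_pow]
  have d2 : r * c ^ n * r⁻¹ = x * (c ^ n)⁻¹ * x⁻¹ := by rw [← conj_pow, e2, conj_pow, inv_pow]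
  have dO := pow_mem cm n
  generalize c ^ n = d at hn d1 d2 dO
  by_cases m : x * d = 1
  · refine ⟨x, hx, h1, ho, hi, Or.inr ?_⟩
    calc _ = s * (r * x * r⁻¹) * s⁻¹ := by group
      _ = x := by rw [hi, inv_eq_of_mul_eq_one_right m, d1, inv_eq_of_mul_eq_one_left m]
  · refine ⟨x * d, OC (mul_mem xO dO), m, odd_mem cO (mul_mem xO dO), ?_, Or.inl ?_⟩
    · calc _ = (r * x * r⁻¹) * (r * d * r⁻¹) := by group
        _ = _ := by rw [hi, d2]; group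
    · calc _ = (s * x * s⁻¹) * (s * d * s⁻¹) := by group
        _ = _ := by rw [e3, d1, ← hn]; group

theorem eq_of_odd {B : Subgroup G} (hB : IsPGroup 2 B) {u v : G} (hu : u ∈ 𝐂(B))
    (ou : Odd (orderOf u)) (ov : Odd (orderOf v)) (h : u⁻¹ * v ∈ B) : u = v := by
  have c : Commute u⁻¹ v := by
    have := mem_cent.1 hu _ h
    have e : u * v = v * u := by
      calc u * v = u * (u * (u⁻¹ * v)) := by group
        _ = _ := by rw [← this]; group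
    exact (show Commute u v from e).inv_left
  obtain ⟨k, hk⟩ := P21.Two.of_mem hB h
  have h1 := orderOf_dvd_of_pow_eq_one hk
  have h2 : Odd (orderOf (u⁻¹ * v)) :=
    (((orderOf_inv u).symm ▸ ou).mul ov).of_dvd_nat c.orderOf_mul_dvd_mul_orderOf
  rw [← inv_mul_eq_one, ← orderOf_eq_one_iff]
  exact Nat.Coprime.eq_one_of_dvd ((Nat.coprime_two_right.2 h2).pow_right k) h1

theorem odd_conj {x : G} (hx : Odd (orderOf x)) (g : G) : Odd (orderOf (g * x * g⁻¹)) := by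
  rwa [← MulAut.conj_apply, MulEquiv.orderOf_eq]

theorem conj_cent {B : Subgroup G} {g x : G} (hg : g ∈ 𝐍(B)) (hx : x ∈ 𝐂(B)) :
    g * x * g⁻¹ ∈ 𝐂(B) := by
  rw [← conj_eq_of_mem_norm hg, cent_conj]
  exact conj_mem_conj hx g

/-- ISO. -/
theorem iso {B : Subgroup G} (hB : IsPGroup 2 B) {ρ σ x : G} (hρ : ρ ∈ 𝐍(B)) (hσ : σ ∈ 𝐍(B))
    (rr : ρ * ρ ∈ B) (ss : σ * σ ∈ B) (rs : ⁅ρ, σ⁆ ∈ B) (hx : x ∈ 𝐂(B)) (ho : Odd (orderOf x))
    (h1 : x ≠ 1) (hi : ρ * x * ρ⁻¹ = x⁻¹) :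
    (∃ w ∈ 𝐂(B), ρ⁻¹ * (w * ρ * w⁻¹) ∉ B ∧
      ρ⁻¹ * (w * ρ * w⁻¹) * (ρ⁻¹ * (w * ρ * w⁻¹)) ∈ B) ∨
      ∃ y ∈ 𝐂(B), y ≠ 1 ∧ Odd (orderOf y) ∧ ρ * y * ρ⁻¹ = y⁻¹ ∧
        (σ * y * σ⁻¹ = y ∨ σ * ρ * y * (σ * ρ)⁻¹ = y) := by
  set K := 𝐍(B) with hK
  haveI : (B.subgroupOf K).Normal := normal_subgroupOf_iff_le_normalizer le_normalizer |>.2 le_rfl
  set π := QuotientGroup.mk' (B.subgroupOf K) with hπ
  have k : ∀ g : K, π g = 1 ↔ (g : G) ∈ B := fun g => QuotientGroup.eq_one_iff g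
  have CK : 𝐂(B) ≤ K := cent_le_norm B
  haveI : (𝐂(B).subgroupOf K).Normal :=
    (normal_subgroupOf_iff CK).2 fun a g ha hg => conj_cent hg ha
  haveI : ((𝐂(B).subgroupOf K).map π).Normal :=
    Normal.map inferInstance _ (QuotientGroup.mk'_surjective _)
  rcases iso0 ((𝐂(B).subgroupOf K).map π) (r := π ⟨ρ, hρ⟩) (s := π ⟨σ, hσ⟩) (x := π ⟨x, CK hx⟩)
    (by rw [← map_mul, k]; exact rr) (by rw [← map_mul, k]; exact ss)
    (commutatorElement_eq_one_iff_mul_comm.1 (by rw [← map_commutatorElement, k]; exact rs))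
    ⟨_, hx, rfl⟩ (ho.of_dvd_nat ((orderOf_map_dvd π _).trans (orderOf_coe _).symm.dvd))
    (fun e => h1 (eq_of_odd hB hx ho (by simp) (by simpa using (k _).1 e)))
    (by rw [← map_inv, ← map_inv, ← map_mul, ← map_mul]; exact congrArg π (Subtype.ext hi))
    with ⟨_, ⟨w, hw, rfl⟩, c, ne⟩ | ⟨_, ⟨w, hw, rfl⟩, ne, od, e1, e2⟩
  · have rr' : π ⟨ρ, hρ⟩ * π ⟨ρ, hρ⟩ = 1 := by rw [← map_mul, k]; exact rr
    refine Or.inl ⟨w, hw, fun h => ne ?_, ?_⟩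
    · have := (k ((⟨ρ, hρ⟩ : K)⁻¹ * (w * ⟨ρ, hρ⟩ * w⁻¹))).2 h
      rw [map_mul, map_mul, map_mul, map_inv, map_inv, inv_mul_eq_one] at this
      exact this.symm
    · refine (k ((⟨ρ, hρ⟩ : K)⁻¹ * (w * ⟨ρ, hρ⟩ * w⁻¹) *
        ((⟨ρ, hρ⟩ : K)⁻¹ * (w * ⟨ρ, hρ⟩ * w⁻¹)))).1 ?_
      simp only [map_mul, map_inv]
      generalize π ⟨ρ, hρ⟩ = r at c rr'
      rw [← pow_two, c.inv_left.mul_pow, conj_pow, inv_pow, pow_two, rr']
      group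
  · obtain ⟨j, m, hm, hj⟩ := Nat.exists_eq_two_pow_mul_odd (orderOf_pos (w : G)).ne'
    have oy : Odd (orderOf ((w : G) ^ 2 ^ j)) :=
      hm.of_dvd_nat (orderOf_dvd_of_pow_eq_one (by rw [← pow_mul, ← hj, pow_orderOf_eq_one]))
    have yC : (w : G) ^ 2 ^ j ∈ 𝐂(B) := pow_mem hw _
    have key : ∀ (g : K) (v : K), Odd (orderOf (v : G)) → π g * π w ^ 2 ^ j * (π g)⁻¹ = π v →
        (g : G) * (w : G) ^ 2 ^ j * (g : G)⁻¹ = v := fun g v ov e =>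
      eq_of_odd hB (conj_cent g.2 yC) (odd_conj oy _) ov ((k ((g * w ^ 2 ^ j * g⁻¹)⁻¹ * v)).1 (by
        rw [map_mul, map_inv, map_mul, map_mul, map_inv, map_pow, e, inv_mul_cancel]))
    refine Or.inr ⟨(w : G) ^ 2 ^ j, yC, fun e => ne ?_, oy,
      key ⟨ρ, hρ⟩ (w ^ 2 ^ j)⁻¹ (by simpa using oy) (by rw [← conj_pow, e1, map_inv, map_pow, inv_pow]),
      e2.imp (fun e => key ⟨σ, hσ⟩ (w ^ 2 ^ j) oy (by rw [← conj_pow, e, map_pow]))
        fun e => key (⟨σ, hσ⟩ * ⟨ρ, hρ⟩) (w ^ 2 ^ j) oy (by rw [← conj_pow, map_mul, e, map_pow])⟩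
    have : π w ^ 2 ^ j = 1 := by rw [← map_pow]; exact congrArg π (Subtype.ext e)
    rw [← orderOf_eq_one_iff]
    exact Nat.Coprime.eq_one_of_dvd ((Nat.coprime_two_right.2 od).pow_right j)
      (orderOf_dvd_of_pow_eq_one this)

theorem zen_two {s : ℕ} (h : Hp G s) : IsPGroup 2 (center G) := fun z => by
  obtain ⟨j, m, hm, hj⟩ := Nat.exists_eq_two_pow_mul_odd (orderOf_pos (z : G)).ne'
  have oy : Odd (orderOf ((z : G) ^ 2 ^ j)) :=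
    hm.of_dvd_nat (orderOf_dvd_of_pow_eq_one (by rw [← pow_mul, ← hj, pow_orderOf_eq_one]))
  have hz : zpowers ((z : G) ^ 2 ^ j) ≤ center G := zpowers_le.2 (pow_mem z.2 _)
  have : zpowers ((z : G) ^ 2 ^ j) ≤ pPrimeCore 2 G := le_sSup ⟨⟨fun a ha g => by
    rw [mem_center_iff.1 (hz ha) g, mul_inv_cancel_right]; exact ha⟩, by
      rw [Nat.card_zpowers]; exact Nat.coprime_two_right.2 oy⟩
  exact ⟨j, Subtype.ext (mem_bot.1 (h.od.le (this (mem_zpowers _))))⟩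

theorem ro_nc {x : G} (h : RO x) : x ∉ center G := fun c => by
  obtain ⟨g, hg⟩ := isConj_iff.1 h.2.2
  exact ne_inv h.2.1 h.1 (by rw [← hg, mem_center_iff.1 c]; group)

theorem le {s : ℕ} (h : Hp G s) {y : G} (hy : IsConj y y⁻¹) (hz : y ∉ center G) {P : Subgroup G}
    (hP : IsPGroup 2 P) (hc : P ≤ 𝐂[y]) : 𝐨(P) ≤ s := by
  obtain ⟨S, hS, rfl⟩ := h.syl y hy hz
  exact Nat.le_of_dvd Nat.card_pos (hS.card_dvd Nat.prime_two hP hc)

theorem two_sup {S : Subgroup G} (hS : IsPGroup 2 S) {g : G} (hg : g ∈ 𝐍(S)) (gg : g * g ∈ S) :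
    IsPGroup 2 (S ⊔ zpowers g : Subgroup G) := by
  obtain ⟨k, hk⟩ := P21.Two.of_mem hS gg
  rw [sup_comm]
  exact isPGroup_sup (P14.two_zp (k := k + 1) (by rw [pow_succ', pow_mul, pow_two, hk])) hS
    (zpowers_le.2 hg)

/-- A 2-element normalizing `S` and centralizing a real noncentral element of `C(S)` is in `S`. -/
theorem mem_of {s : ℕ} (h : Hp G s) {S : Subgroup G} (hS : IsPGroup 2 S) (cS : 𝐨(S) = s) {y g : G}
    (hy : IsConj y y⁻¹) (hz : y ∉ center G) (hc : y ∈ 𝐂(S)) (hg : g ∈ 𝐍(S)) (gg : g * g ∈ S)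
    (c : g ∈ 𝐂[y]) : g ∈ S := by
  have := le h hy hz (two_sup hS hg gg) (sup_le (mem_cent_iff_cent1.1 hc) (zpowers_le.2 c))
  rw [← cS] at this
  rw [eq_of_le_of_card_ge le_sup_left this]
  exact mem_sup_right (mem_zpowers g)

theorem zen_le {s : ℕ} (h : Hp G s) {x τ : G} {S : Subgroup G} (c : Cf s x S τ) :
    center G ≤ S :=
  c.syl.le_of_norm Nat.prime_two (zen_two h) (center_le_centralizer _)
    ((center_le_centralizer _).trans (cent_le_norm S))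

/-- UI. -/
theorem ui {s : ℕ} (h : Hp G s) {x τ σ : G} {S : Subgroup G} (c : Cf s x S τ) (hσ : σ ∈ 𝐍(S))
    (ss : σ * σ ∈ S) (st : ⁅τ, σ⁆ ∈ S) : σ ∈ S ∨ σ * τ ∈ S := by
  rcases iso c.syl.pgrp c.nrm hσ c.sq ss st (mem_cent_iff_cent1.2 c.syl.le) c.odd c.ne c.inv with
    ⟨w, hw, ne, sq⟩ | ⟨y, hy, ne, od, e1, e2⟩
  · have m : τ⁻¹ * (w * τ * w⁻¹) ∈ 𝐂(S) := by
      have := mul_mem (conj_cent (inv_mem c.nrm) hw) (inv_mem hw)
      simpa [mul_assoc] using this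
    refine absurd (mem_of h c.syl.pgrp c.card (y := τ⁻¹ * (w * τ * w⁻¹)) (isConj_iff.2 ⟨τ, ?_⟩)
      (fun z => ne (zen_le h c z)) m (cent_le_norm S m) sq (self_mem_cent1 _)) ne
    have := mem_cent.1 hw _ c.sq
    calc _ = w * τ⁻¹ * (τ * τ * w⁻¹) * τ⁻¹ := by group
      _ = w * τ⁻¹ * (w⁻¹ * (τ * τ)) * τ⁻¹ := by
        rw [(show Commute (τ * τ) w from this).inv_right.eq]
      _ = _ := by group
  · have r : RO y := ⟨ne, od, isConj_iff.2 ⟨τ, e1⟩⟩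
    refine e2.imp (fun e => mem_of h c.syl.pgrp c.card r.2.2 (ro_nc r) hy hσ ss
      (mem_cent1_iff_conj.2 e)) fun e => mem_of h c.syl.pgrp c.card r.2.2 (ro_nc r) hy
        (mul_mem hσ c.nrm) ?_ (mem_cent1_iff_conj.2 e)
    have e : σ * τ * (σ * τ) = σ * ⁅τ, σ⁆ * σ⁻¹ * (σ * σ) * (τ * τ) := by
      rw [commutatorElement_def]; group
    rw [e]
    exact mul_mem (mul_mem ((mem_normalizer_iff.1 hσ _).1 st) ss) c.sq

end Cfsg.Agent.P30.R6
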