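/-
P30, Qs: the case `a = 1`, `G / Z` simple, from `DihStmt` and `EndStmt`.
-/
import Cfsg.Agent.P30.End
import Cfsg.Agent.H6.HalfClass2
import Cfsg.Agent.H5.Real
import Cfsg.Agent.H7.SC3

set_option autoImplicit false
set_option linter.unusedSectionVars false

namespace Cfsg.Agent.P30

open Subgroup Cfsg Cfsg.Agent Cfsg.Agent.FT

universe u

namespace Qs

variable {G : Type u} [Group G] [Finite G]

theorem center_le (hZ : IsPGroup 2 (center G)) {S : Subgroup G} {x : G} (h : IsSyl 2 S 𝐂[x]) :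
    center G ≤ S :=
  h.le_of_norm Nat.prime_two hZ (fun _ hz => mem_cent1.2 (mem_center_iff.1 hz x))
    (fun z hz => mem_normalizer_fintype fun a ha => by
      rwa [← mem_center_iff.1 hz a, mul_inv_cancel_right])

theorem card_bar {S : Subgroup G} (h : center G ≤ S) :
    𝐨(center G) * 𝐨(S.map (QuotientGroup.mk' (center G))) = 𝐨(S) := by
  rw [← relIndex_ker, QuotientGroup.ker_mk', H1.card_mul_relIndex h]

theorem not_center {x t : G} (x1 : x ≠ 1) (ho : Odd (orderOf x)) (hi : t * x * t⁻¹ = x⁻¹) :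
    x * x ∉ center G := fun h => by
  obtain ⟨k, hk⟩ := ho
  have h1 : x⁻¹ = (x * x) ^ k := by
    refine inv_eq_of_mul_eq_one_left ?_
    rw [← sq, ← pow_mul, ← pow_succ, ← hk, pow_orderOf_eq_one]
  have h2 : x ∈ center G := inv_mem_iff.1 (h1 ▸ pow_mem h k)
  rw [mem_center_iff.1 h2 t, mul_inv_cancel_right] at hi
  have h3 : x * x = 1 := by nth_rw 2 [hi]; simp
  rw [h3, one_pow, inv_eq_one] at h1
  exact x1 h1

end Qs

theorem qsStmt (hD : DihStmt.{u}) (hE : EndStmt.{u}) : QsStmt.{u} := fun G _ _ s h h4 hs => by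
  obtain ⟨x, t, w, S, c, tt, wS, wZ, hS, hw⟩ := hD G s h h4 hs
  have hZ := H6.Half.isPGroup_center h.od
  have ZS := Qs.center_le hZ c.syl
  set f := QuotientGroup.mk' (center G) with hf
  have fs : Function.Surjective f := QuotientGroup.mk'_surjective _
  have f1 : ∀ a : G, f a = 1 ↔ a ∈ center G := fun a => QuotientGroup.eq_one_iff a
  have xx := Qs.not_center c.ne c.odd c.inv
  have tS : t ∉ S := fun e => by
    have h1 : Commute x t := mem_cent1.1 (c.syl.le e)
    have h2 := c.inv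
    rw [← h1.eq, mul_inv_cancel_right] at h2
    exact xx (by nth_rw 2 [h2]; simp)
  have hmap : S.map f = zpowers (f w) := by
    refine le_antisymm ((map_mono hS).trans ?_) (zpowers_le_of_mem (mem_map_of_mem f wS))
    rw [Subgroup.map_sup, MonoidHom.map_zpowers]
    refine sup_le le_rfl ?_
    rintro _ ⟨a, ha, rfl⟩
    rw [(f1 a).2 ha]; exact one_mem _
  -- the group `T = S ⟨t⟩`
  let T : Subgroup G :=
    { carrier := {g | g ∈ S ∨ t * g ∈ S}
      one_mem' := Or.inl (one_mem _)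
      mul_mem' := by
        have n : ∀ a ∈ S, t * a * t⁻¹ ∈ S := fun a ha => (mem_normalizer_iff.1 c.nrm a).1 ha
        rintro a b (ha | ha) (hb | hb)
        · exact Or.inl (mul_mem ha hb)
        · refine Or.inr ?_
          have := mul_mem (n a ha) hb
          rwa [show t * a * t⁻¹ * (t * b) = t * (a * b) by group] at this
        · exact Or.inr (mul_assoc t a b ▸ mul_mem ha hb)
        · refine Or.inl ((mem_normalizer_iff.1 c.nrm _).2 ?_)
          have h2 := mul_mem (mul_mem ha (mul_mem (inv_mem c.sq) (n _ hb))) (one_mem S)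
          rwa [show t * a * ((t * t)⁻¹ * (t * (t * b) * t⁻¹)) * 1 = t * (a * b) * t⁻¹ by group] at h2
      inv_mem' := by
        rintro a (ha | ha)
        · exact Or.inl (inv_mem ha)
        · refine Or.inr ?_
          have := mul_mem ((mem_normalizer_iff.1 c.nrm _).1 (inv_mem ha)) c.sq
          rwa [show t * (t * a)⁻¹ * t⁻¹ * (t * t) = t * a⁻¹ by group] at this }
  have ST : S ≤ T := fun _ h => Or.inl h
  have tT : t ∈ T := Or.inr c.sq
  have iT : S.relIndex T = 2 := by
    rw [relIndex_eq_two_iff_exists_notMem_and']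
    exact ⟨t, tT, tS, fun b hb => hb.symm⟩
  have cT : 𝐨(T) = 2 * s := by rw [← H1.card_mul_relIndex ST, iT, c.card, mul_comm]
  obtain ⟨k, hk⟩ := exists_card_eq_pow Nat.prime_two c.syl.pgrp
  have sT : IsSyl 2 T ⊤ := by
    refine ⟨le_top, isPGroup_of_card_eq (n := k + 1) (by rw [cT, ← c.card, hk]; ring), ?_⟩
    rintro ⟨m, hm⟩
    rw [relIndex_top_right] at hm
    exact h4 ⟨m, by rw [← T.card_mul_index, cT, hm]; ring⟩
  have w2 : IsPGroup 2 (zpowers (f w)) := hmap ▸ c.syl.pgrp.map f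
  obtain ⟨z, zw, z1, zz⟩ := P4.exists_invol w2 (by rwa [Ne, zpowers_eq_bot, f1])
  have ss : f t * f t = 1 := by rw [← map_mul, f1]; exact tt
  have si : (f t)⁻¹ = f t := inv_eq_of_mul_eq_one_right ss
  have iw : f t * f w * f t = (f w)⁻¹ := by
    refine eq_inv_of_mul_eq_one_right ?_
    have := (f1 _).2 hw
    simpa only [map_mul, map_inv, si] using this
  have mx : P4.Max2 (T.map f) (f w) z (f t) :=
    { syl := H7.SC.isSyl_map fs sT
      xS := mem_map_of_mem f (ST wS)
      zx := zw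
      z1 := z1
      zz := zz
      sS := mem_map_of_mem f tT
      sx := fun e => by
        obtain ⟨a, ha, e'⟩ := hmap ▸ e
        have : a⁻¹ * t ∈ S := ZS ((f1 _).1 (by rw [map_mul, map_inv, e', inv_mul_cancel]))
        exact tS (by simpa using mul_mem ha this)
      ss := ss
      cover := by
        rintro _ ⟨g, hg | hg, rfl⟩
        · exact Or.inl (hmap ▸ mem_map_of_mem f hg)
        · exact Or.inr (hmap ▸ map_mul f t g ▸ mem_map_of_mem f hg)
      cs := by
        rintro _ ⟨n, rfl⟩ e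
        have h1 : f t * f w ^ n * (f t)⁻¹ = (f w ^ n)⁻¹ := by
          rw [← conj_zpow, si, iw, inv_zpow]
        simp only at e ⊢
        rw [e.eq, mul_inv_cancel_right] at h1
        nth_rw 2 [h1]; simp }
  have cw : 𝐨(center G) * orderOf (f w) = s := by
    rw [← Nat.card_zpowers, ← hmap, Qs.card_bar ZS, c.card]
  refine hE (G ⧸ center G) hs (fun e => xx ((f1 _).1 ?_)) (fun _ => ⟨_, _, _, _, mx, iw⟩)
    (orderOf (f w)) (fun P hP => (hP.card_eq Nat.prime_two mx.syl).trans mx.card) ?_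
  · have h1 := congrArg f c.inv
    rw [map_mul, map_mul, map_inv, map_inv, e.is_comm.comm (f t) (f x), mul_inv_cancel_right] at h1
    rw [map_mul]; nth_rw 2 [h1]; simp
  rintro y ⟨y1, yo, yr⟩
  obtain ⟨g, hg⟩ := isConj_iff.1 yr
  obtain ⟨n, hn⟩ := exists_card_eq_pow Nat.prime_two hZ
  have cop : (orderOf y).Coprime 𝐨(center G) := by
    rw [hn]; exact (Nat.coprime_two_right.2 yo).pow_right n
  obtain ⟨a, rfl, ha⟩ := H5.exists_lift_orderOf_eq (center G) y cop
  obtain ⟨b, -, hb⟩ := H5.exists_lift_conj_eq_zpow (center G) (x := a) (ha ▸ cop) (y := g) (k := -1)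
    (by rw [hg, zpow_neg_one])
  obtain ⟨P, hP, cP⟩ := h.syl a (isConj_iff.2 ⟨b, by rw [hb, zpow_neg_one]⟩)
    fun e => y1 ((f1 a).2 e)
  have h1 := Qs.card_bar (Qs.center_le hZ hP)
  rw [cP, ← cw] at h1
  rw [← Nat.eq_of_mul_eq_mul_left Nat.card_pos h1]
  refine Subgroup.card_dvd_of_le ?_
  rintro _ ⟨p, hp, rfl⟩
  exact mem_cent1.2 (Commute.map (mem_cent1.1 (hP.le hp)) f)

end Cfsg.Agent.P30
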