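import Cfsg.Agent.P30.Red
import Cfsg.Agent.P30.F1
import Cfsg.Agent.P30.Ex6
import Cfsg.Agent.P30.A1b
import Cfsg.Agent.P30.Qs
import Cfsg.Agent.P30.End

/-! S3860: assembly. -/

set_option autoImplicit false

namespace Cfsg.Agent.P30

universe u

theorem main_of_dih (hD : DihStmt.{u}) : MainStmt.{u} :=
  main_of f1Stmt R6.exStmt coreStmt (a1Stmt' (qsStmt hD endStmt))

end Cfsg.Agent.P30
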