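import Cfsg.Agent.H7.RealE
import Cfsg.Agent.P30.Defs

/-! S3860: reduction modulo the largest normal subgroup of odd order. -/

set_option autoImplicit false

namespace Cfsg.Agent.P30.R6

open Subgroup Cfsg Cfsg.Agent Cfsg.Agent.FT
open scoped Pointwise

universe u

variable {G : Type u} [Group G] [Finite G]

/-- A real element modulo an odd normal subgroup has a real lift that centralizes a Sylow
`2`-subgroup of the preimage of the centralizer. -/
theorem exists_lift (N : Subgroup G) [N.Normal] (hN : Odd (Nat.card N)) {y g : G ⧸ N}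
    (hg : g * y * g⁻¹ = y⁻¹) :
    ∃ (y' g' : G) (S : Subgroup G), QuotientGroup.mk' N y' = y ∧ g' * y' * g'⁻¹ = y'⁻¹ ∧
      IsSyl 2 S (𝐂[y].comap (QuotientGroup.mk' N)) ∧ S ≤ 𝐂[y'] := by
  classical
  haveI : Fact (Nat.Prime 2) := ⟨Nat.prime_two⟩
  set π := QuotientGroup.mk' N with hπ
  set D := 𝐂[y].comap π with hD
  have mD : ∀ d, d ∈ D ↔ π d * y = y * π d := fun d => by
    rw [hD, mem_comap, mem_centralizer_singleton_iff]
  obtain ⟨S, hS⟩ := exists_isSyl Nat.prime_two D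
  obtain ⟨g0, rfl⟩ := QuotientGroup.mk'_surjective N g
  have yy : π g0 * y⁻¹ * (π g0)⁻¹ = y := by
    rw [← inv_inj, mul_inv_rev, mul_inv_rev, inv_inv, inv_inv, ← mul_assoc, hg]
  have n0 : g0 ∈ 𝐍(D) := by
    refine mem_normalizer_fintype fun d hd => ?_
    have hd' := (mD d).1 hd
    refine (mD _).2 ?_
    have c : π d * y⁻¹ = y⁻¹ * π d := ((show Commute (π d) y from hd').inv_right).eq
    rw [map_mul, map_mul, map_inv]
    calc π g0 * π d * (π g0)⁻¹ * y = π g0 * (π d * y⁻¹) * (π g0)⁻¹ := by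
          conv_lhs => rw [← yy]
          group
      _ = y * (π g0 * π d * (π g0)⁻¹) := by
          rw [c]
          conv_rhs => rw [← yy]
          group
  obtain ⟨d, hd, e⟩ := hS.exists_conj_eq Nat.prime_two (hS.conj_of_mem_norm n0)
  rw [conj_conj, conj_eq_self_iff] at e
  have i1 : π (d * g0) * y * (π (d * g0))⁻¹ = y⁻¹ := by
    have c : π d * y⁻¹ = y⁻¹ * π d := ((show Commute (π d) y from (mD d).1 hd).inv_right).eq
    rw [map_mul]
    calc π d * π g0 * y * (π d * π g0)⁻¹ = π d * (π g0 * y * (π g0)⁻¹) * (π d)⁻¹ := by group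
      _ = y⁻¹ := by rw [hg, c]; group
  obtain ⟨k, m, hm, hk⟩ := Nat.exists_eq_two_pow_mul_odd (orderOf_pos (d * g0)).ne'
  set a := (d * g0) ^ m with ha
  have aN : a ∈ 𝐍(S) := pow_mem e m
  have ak : a ^ 2 ^ k = 1 := by rw [ha, ← pow_mul, mul_comm, ← hk, pow_orderOf_eq_one]
  have ai : π a * y * (π a)⁻¹ = y⁻¹ := by
    rw [ha, map_pow]; exact H5.pow_conj_eq_inv_of_odd i1 hm
  let F := {z : G // π z = y}
  letI : MulAction S F :=
    { smul := fun s z => ⟨s * z * (s : G)⁻¹, by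
        rw [map_mul, map_mul, map_inv, z.2, (mD s).1 (hS.le s.2)]; group⟩
      one_smul := fun z => Subtype.ext (by change ((1 : S) : G) * z * ((1 : S) : G)⁻¹ = z; simp)
      mul_smul := fun s t z => Subtype.ext (by
        change ((s * t : S) : G) * z * ((s * t : S) : G)⁻¹ = s * (t * z * (t : G)⁻¹) * (s : G)⁻¹
        rw [Subgroup.coe_mul]; group) }
  have hcard : Nat.card F = Nat.card N := by
    have := QuotientGroup.card_preimage_mk N {y}
    rw [Nat.card_unique (α := ({y} : Set (G ⧸ N))), mul_one] at this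
    rw [← this]
    rfl
  have hmod := hS.pgrp.card_modEq_card_fixedPoints F
  have mf : ∀ z : F, z ∈ MulAction.fixedPoints S F ↔ ∀ s ∈ S, s * z * s⁻¹ = z := fun z =>
    ⟨fun h s hs => congrArg Subtype.val (h ⟨s, hs⟩), fun h s => Subtype.ext (h s s.2)⟩
  let σ : Equiv.Perm (MulAction.fixedPoints S F) :=
    { toFun := fun z => ⟨⟨(a * z.1 * a⁻¹)⁻¹, by
        rw [map_inv, map_mul, map_mul, map_inv, z.1.2, ai, inv_inv]⟩, (mf _).2 fun s hs => by
          have h1 := (mf _).1 z.2 (a⁻¹ * s * a) (by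
            simpa using (mem_normalizer_iff.1 (inv_mem aN) s).1 hs)
          change s * (a * z.1 * a⁻¹)⁻¹ * s⁻¹ = (a * z.1 * a⁻¹)⁻¹
          conv_rhs => rw [← h1]
          group⟩
      invFun := fun z => ⟨⟨a⁻¹ * (z.1 : G)⁻¹ * a, by
        rw [map_mul, map_mul, map_inv, map_inv, z.1.2, ← ai]; group⟩, (mf _).2 fun s hs => by
          have h1 := (mf _).1 z.2 (a * s * a⁻¹) ((mem_normalizer_iff.1 aN s).1 hs)
          change s * (a⁻¹ * (z.1 : G)⁻¹ * a) * s⁻¹ = a⁻¹ * (z.1 : G)⁻¹ * a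
          conv_rhs => rw [← h1]
          group⟩
      left_inv := fun z => Subtype.ext (Subtype.ext (by group))
      right_inv := fun z => Subtype.ext (Subtype.ext (by group)) }
  have h2 : ∀ (n : ℕ) z, (((σ ^ 2) ^ n) z).1.1 = (a ^ 2) ^ n * z.1.1 * ((a ^ 2) ^ n)⁻¹ := by
    intro n
    induction n with
    | zero => intro z; rw [pow_zero, pow_zero, Equiv.Perm.one_apply]; group
    | succ n ih =>
      intro z
      rw [pow_succ, Equiv.Perm.mul_apply, ih, pow_succ (a ^ 2)]
      change _ * (a * (a * z.1.1 * a⁻¹)⁻¹ * a⁻¹)⁻¹ * _ = _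
      generalize (a ^ 2) ^ n = b
      simp only [pow_two, mul_inv_rev, inv_inv, mul_assoc]
  haveI := Fintype.ofFinite (MulAction.fixedPoints S F)
  obtain ⟨z, hz⟩ := Equiv.Perm.exists_fixed_point_of_prime (p := 2) (n := k + 1) (σ := σ)
    (by
      rw [← Nat.card_eq_fintype_card]
      intro h
      rw [hcard] at hmod
      exact Nat.not_even_iff_odd.2 hN (even_iff_two_dvd.2
        ((Nat.modEq_zero_iff_dvd.1 (hmod.trans (Nat.modEq_zero_iff_dvd.2 h)))))) (by
      ext z
      rw [pow_succ', pow_mul, h2, ← pow_mul, mul_comm, pow_mul, ak, Equiv.Perm.one_apply]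
      group)
  refine ⟨z.1.1, a, S, z.1.2, inv_eq_iff_eq_inv.1 (congrArg (fun w => w.1.1) hz), hS,
    fun s hs => ?_⟩
  rw [mem_centralizer_singleton_iff]
  exact mul_inv_eq_iff_eq_mul.1 ((mf _).1 z.2 s hs)

theorem red (N : Subgroup G) [N.Normal] (hN : Odd (Nat.card N)) (a : ℕ)
    (h : ∀ x : G, IsConj x x⁻¹ → x ∉ center G → (𝐂[x].index).factorization 2 = a)
    (y : G ⧸ N) (hy : IsConj y y⁻¹) (hz : y ∉ center (G ⧸ N)) :
    (𝐂[y].index).factorization 2 = a := by
  obtain ⟨g, hg⟩ := isConj_iff.1 hy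
  obtain ⟨y', g', S, rfl, e, hS, hc⟩ := exists_lift N hN hg
  have hz' : y' ∉ center G := fun c => hz (mem_center_iff.2 fun b => by
    obtain ⟨b, rfl⟩ := QuotientGroup.mk'_surjective N b
    rw [← map_mul, ← map_mul, mem_center_iff.1 c])
  rw [← h y' (isConj_iff.2 ⟨g', e⟩) hz',
    ← index_comap_of_surjective _ (QuotientGroup.mk'_surjective N)]
  set D := 𝐂[QuotientGroup.mk' N y'].comap (QuotientGroup.mk' N) with hD
  have le : 𝐂[y'] ≤ D := fun b hb => by
    rw [hD, mem_comap, mem_centralizer_singleton_iff, ← map_mul, ← map_mul,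
      mem_centralizer_singleton_iff.1 hb]
  rw [← relIndex_mul_index le, Nat.factorization_mul (show 𝐂[y'].relIndex D ≠ 0 from index_ne_zero_of_finite)
    index_ne_zero_of_finite, Finsupp.add_apply,
    Nat.factorization_eq_zero_of_not_dvd (n := 𝐂[y'].relIndex D)
      (fun h => hS.ndvd (h.trans (relIndex_dvd_of_le_left D hc))), zero_add]

theorem s3860 (M : MainStmt.{u}) (a : ℕ)
    (h : ∀ x : G, IsConj x x⁻¹ → x ∉ center G → (𝐂[x].index).factorization 2 = a) :
    ∃ N K : Subgroup G, N.Normal ∧ K.Normal ∧ N ≤ K ∧ Odd (Nat.card N) ∧ Odd K.index ∧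
      ∃ j : ℕ, N.relIndex K = 2 ^ j := by
  haveI : Fact (Nat.Prime 2) := ⟨Nat.prime_two⟩
  set N := pPrimeCore 2 G with hNd
  haveI : N.Normal := inferInstance
  have hN : Odd (Nat.card N) := Nat.coprime_two_right.1 (L.coprime_card_pPrimeCore 2)
  obtain ⟨P⟩ : Nonempty (Sylow 2 (G ⧸ N)) := inferInstance
  have hP : (P : Subgroup (G ⧸ N)).Normal := by
    refine H5.sylow_two_normal_of_not_real (fun x g hx hg => ?_) P
    by_contra x1
    refine M (G ⧸ N) (2 ^ ((Nat.card (G ⧸ N)).factorization 2 - a))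
      ⟨L.pPrimeCore_quotient_pPrimeCore Nat.prime_two, fun y hy hz => ?_,
        x, x1, hx, isConj_iff.2 ⟨g, hg⟩⟩
    obtain ⟨S, hS⟩ := exists_isSyl Nat.prime_two 𝐂[y]
    refine ⟨S, hS, ?_⟩
    rw [hS.card_eq_pow_factorization Nat.prime_two, ← red N hN a h y hy hz,
      ← card_mul_index 𝐂[y], Nat.factorization_mul Nat.card_pos.ne' index_ne_zero_of_finite,
      Finsupp.add_apply, Nat.add_sub_cancel]
  refine ⟨N, (P : Subgroup (G ⧸ N)).comap (QuotientGroup.mk' N), inferInstance,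
    hP.comap _, ?_, hN, ?_, ?_⟩
  · exact (QuotientGroup.ker_mk' N).ge.trans (ker_le_comap _ _)
  · rw [index_comap_of_surjective _ (QuotientGroup.mk'_surjective N), ← Nat.not_even_iff_odd,
      even_iff_two_dvd]
    exact P.not_dvd_index
  · obtain ⟨j, hj⟩ := P.isPGroup'.exists_card_eq
    refine ⟨j, ?_⟩
    have e := relIndex_ker ((P : Subgroup (G ⧸ N)).comap (QuotientGroup.mk' N))
      (QuotientGroup.mk' N)
    rw [QuotientGroup.ker_mk', map_comap_eq_self_of_surjective (QuotientGroup.mk'_surjective N),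
      hj] at e
    exact e

end Cfsg.Agent.P30.R6
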